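import Groth.Agent.GrassShLib.Frame
import Groth.Agent.GrassRepLib.Free

/-!
# Affine charts of the Grassmannian of a module
-/

set_option autoImplicit false
set_option backward.isDefEq.respectTransparency false
set_option linter.style.haveILetI false

universe u

open CategoryTheory CategoryTheory.Limits AlgebraicGeometry TopologicalSpace Opposite Grass
open Groth.Agent.PullbackMod Groth.Agent.FlagLib Groth.Agent.DegDevLib Groth.Agent.GrassRepLib
open Groth.Agent.DCohLib

noncomputable section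

namespace Groth.Agent.GrassShLib

variable {X T T' : Scheme.{u}} {E : X.Modules} {r : ℕ}

/-! ### Images of sections in a quotient -/

/-- The image of a section in a quotient. -/
def vecS {g : T ⟶ X} (D : QData E r g) {U : X.Opens} {W : T.Opens} (e : W ≤ g ⁻¹ᵁ U) (s : Γ(E, U)) : Γ(D.L, W) :=
  D.s.app W (pullMap g E e s)

theorem vecS_bc {g : T ⟶ X} {g' : T' ⟶ X} (D : QData E r g) (h : T' ⟶ T) (hg : h ≫ g = g') {U : X.Opens}
    {W : T.Opens} {W' : T'.Opens} (e : W ≤ g ⁻¹ᵁ U) (e' : W' ≤ g' ⁻¹ᵁ U) (hW : W' ≤ h ⁻¹ᵁ W) (s : Γ(E, U)) :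
    vecS (D.bc h hg) e' s = pullMap h D.L hW (vecS D e s) := by
  subst hg
  show (qb D.s (rfl : h ≫ g = h ≫ g)).app W' (pullMap (h ≫ g) E e' s) = _
  rw [qb_rfl, Scheme.Modules.Hom.comp_app, ConcreteCategory.comp_apply]
  have h1 : ((Scheme.Modules.pullbackComp h g).inv.app E).app W' (pullMap (h ≫ g) E e' s) =
      pullMap h _ hW (pullMap g E e s) := by
    rw [← GenBCLib.pullMap_comp h g E e hW e' s]
    exact congr($((Scheme.Modules.pullbackComp h g).hom_inv_id_app E).app W' _)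
  refine (congrArg _ h1).trans ?_
  exact pullMap_natural h D.s hW _

theorem vecS_bc_top {g : T ⟶ X} {g' : T' ⟶ X} (D : QData E r g) (h : T' ⟶ T) (hg : h ≫ g = g') {U : X.Opens}
    (e : ⊤ ≤ g ⁻¹ᵁ U) (e' : ⊤ ≤ g' ⁻¹ᵁ U) (s : Γ(E, U)) :
    vecS (D.bc h hg) e' s = pullMap h D.L (le_refl (⊤ : T'.Opens)) (vecS D e s) :=
  vecS_bc D h hg e e' _ s

theorem vecS_iso {g : T ⟶ X} {D D' : QData E r g} (ε : D.L ≅ D'.L) (hε : D.s ≫ ε.hom = D'.s) {U : X.Opens}
    {W : T.Opens} (e : W ≤ g ⁻¹ᵁ U) (s : Γ(E, U)) : ε.hom.app W (vecS D e s) = vecS D' e s :=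
  congr($(hε).app W (pullMap g E e s))

theorem vecS_sum {g : T ⟶ X} (D : QData E r g) {U : X.Opens} {W : T.Opens} (e : W ≤ g ⁻¹ᵁ U) {n : ℕ}
    (ρ : Fin n → Γ(X, U)) (σ : Fin n → Γ(E, U)) :
    vecS D e (∑ j, ρ j • σ j) = ∑ j, g.appLE U W e (ρ j) • vecS D e (σ j) := by
  simp only [vecS, map_sum, pullMap_smul, Scheme.Modules.Hom.app_smul]

theorem spanAt_vecS [Coh.IsQCoh E] {g : T ⟶ X} (D : QData E r g) {U : X.Opens} (hU : IsAffineOpen U) {n : ℕ}
    {σ : Fin n → Γ(E, U)} (hσ : Submodule.span Γ(X, U) (Set.range σ) = ⊤) {W : T.Opens} (e : W ≤ g ⁻¹ᵁ U) {x : T}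
    (hx : x ∈ W) : SpanAt (fun j => vecS D e (σ j)) x hx :=
  haveI := D.epi
  (spanAt_pullMap g e hx (spanAt_affine hU hσ (e hx))).map D.s

/-! ### Standard sections of free modules -/

/-- The standard sections. -/
def stdSec (T : Scheme.{u}) (n : ℕ) (a : Fin n) : Γ(FlatMod.freeMod T n, ⊤) :=
  (Sigma.ι (fun _ : Fin n => Coh.structureModule T) a).app ⊤ (1 : Γ(T, ⊤))

theorem germ_stdSec (T : Scheme.{u}) (n : ℕ) (a : Fin n) (x : T) :
    (FlatMod.freeMod T n).presheaf.germ ⊤ x trivial (stdSec T n a) = stdGerm n x a := by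
  rw [stdSec, stdGerm, ParaFLib.oneG, ← stalkLin_germ]

theorem isFrame_stdSec (T : Scheme.{u}) (n : ℕ) : IsFrame (⊤ : T.Opens) (stdSec T n) := fun x hx => by
  rw [show (fun i => (FlatMod.freeMod T n).presheaf.germ ⊤ x hx (stdSec T n i)) = stdGerm n x from
    funext fun i => germ_stdSec T n i x]
  exact stdGerm_bijective n x

theorem bijective_descS {L : T.Modules} {n : ℕ} {f : Fin n → Γ(L, ⊤)} (hf : IsFrame ⊤ f) : IsIso (descS f) := by
  refine (isIso_iff_stalk _).2 fun x => ?_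
  have h : ⇑(stalkLin (descS f) x) ∘ ⇑(Fintype.linearCombination (T.presheaf.stalk x) (stdGerm n x)) =
      ⇑(Fintype.linearCombination (T.presheaf.stalk x) fun i => L.presheaf.germ ⊤ x trivial (f i)) := by
    funext c
    simp only [Function.comp_apply, Fintype.linearCombination_apply, map_sum, map_smul, descS_stdGerm]
  exact ((Function.Bijective.of_comp_iff _ (stdGerm_bijective n x)).1 (h ▸ hf x trivial))

theorem descS_app_stdSec {L : T.Modules} {n : ℕ} (f : Fin n → Γ(L, ⊤)) (a : Fin n) :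
    (descS f).app ⊤ (stdSec T n a) = f a := by
  have h := congrArg (fun φ : Coh.structureModule T ⟶ L => φ.app ⊤ (1 : Γ(T, ⊤)))
    (Sigma.ι_desc (fun i => secHom L (f i)) a)
  refine h.trans ?_
  show (secHom L (f a)).app ⊤ (1 : Γ(T, ⊤)) = _
  rw [secHom_app_one]
  simp

/-- An isomorphism of two modules carrying one frame to the other. -/
theorem exists_iso_frame {L L' : T.Modules} {n : ℕ} {f : Fin n → Γ(L, ⊤)} {f' : Fin n → Γ(L', ⊤)}
    (hf : IsFrame ⊤ f) (hf' : IsFrame ⊤ f') : ∃ ε : L ≅ L', ∀ a, ε.hom.app ⊤ (f a) = f' a := by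
  haveI := bijective_descS hf
  haveI := bijective_descS hf'
  refine ⟨(asIso (descS f)).symm ≪≫ asIso (descS f'), fun a => ?_⟩
  rw [← descS_app_stdSec f a, ← descS_app_stdSec f' a]
  show (inv (descS f) ≫ descS f').app ⊤ ((descS f).app ⊤ _) = _
  rw [← ConcreteCategory.comp_apply, ← Scheme.Modules.Hom.comp_app, IsIso.hom_inv_id_assoc]

/-! ### Coordinates -/

theorem colOf_ringHom {n k : ℕ} {A B : Type u} [CommRing A] [CommRing B] (I : Fin k ↪ Fin n)
    (x : Fin k × outside I → A) (f : A →+* B) (j : Fin n) (a : Fin k) :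
    f (colOf I x j a) = colOf I (fun p => f (x p)) j a := by
  rw [colOf, colOf]
  split
  · next h => rcases eq_or_ne a h.choose with rfl | hne <;> simp [*]
  · rfl

/-! ### Morphisms to an affine scheme over an affine open -/

theorem appLE_comp_fromSpec {U : X.Opens} (hU : IsAffineOpen U) (a : T ⟶ Spec Γ(X, U))
    (e : ⊤ ≤ (a ≫ hU.fromSpec) ⁻¹ᵁ U) :
    (a ≫ hU.fromSpec).appLE U ⊤ e = (Scheme.ΓSpecIso Γ(X, U)).inv ≫ a.appTop := by
  rw [Scheme.Hom.comp_appLE, IsAffineOpen.fromSpec_app_self, Category.assoc, Scheme.Hom.map_appLE]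
  simp [Scheme.Hom.appLE]

theorem toSpecΓ_appLE_fromSpec {U : X.Opens} (hU : IsAffineOpen U) (g : T ⟶ X) (e : ⊤ ≤ g ⁻¹ᵁ U) :
    T.toSpecΓ ≫ Spec.map (g.appLE U ⊤ e) ≫ hU.fromSpec = g := by
  have hr : Set.range g ⊆ Set.range hU.fromSpec := by
    rw [hU.range_fromSpec]
    rintro _ ⟨x, rfl⟩
    exact e trivial
  obtain ⟨a, rfl⟩ : ∃ a, a ≫ hU.fromSpec = g := ⟨_, IsOpenImmersion.lift_fac hU.fromSpec g hr⟩
  rw [appLE_comp_fromSpec, Spec.map_comp, ← Category.assoc, ← Category.assoc, ← Scheme.toSpecΓ_naturality,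
    Category.assoc a, ← SpecMap_ΓSpecIso_hom, ← Spec.map_comp, Iso.inv_hom_id, Spec.map_id, Category.comp_id]

/-! ### Charts -/

variable (E r) in
/-- An index of a chart: an affine open, generators over it and `r` of them. -/
structure Idx : Type u where
  /-- the open -/
  U : X.Opens
  hU : IsAffineOpen U
  /-- the number of generators -/
  n : ℕ
  /-- the generators -/
  σ : Fin n → Γ(E, U)
  hσ : Submodule.span Γ(X, U) (Set.range σ) = ⊤
  /-- the chosen generators -/
  I : Fin r ↪ Fin n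

variable (i : Idx E r)

/-- The polynomial ring of a chart. -/
abbrev Idx.P : Type u := MvPolynomial (Fin r × outside i.I) Γ(X, i.U)

/-- The equations of a chart. -/
def Idx.J : Ideal i.P :=
  Ideal.span (Set.range fun p : {ρ : Fin i.n → Γ(X, i.U) // ∑ j, ρ j • i.σ j = 0} × Fin r =>
    ∑ j, MvPolynomial.C (p.1.1 j) * colOf i.I MvPolynomial.X j p.2)

/-- The ring of a chart. -/
abbrev Idx.A : Type u := i.P ⧸ i.J

/-- The scheme of a chart, over the base. -/
def Idx.Z : Over X :=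
  Over.mk (Spec.map (CommRingCat.ofHom (algebraMap Γ(X, i.U) i.A)) ≫ i.hU.fromSpec)

theorem Idx.le_preimage : ⊤ ≤ i.Z.hom ⁻¹ᵁ i.U := fun z _ => by
  show i.Z.hom z ∈ (i.U : Set X)
  rw [← i.hU.range_fromSpec]
  exact ⟨_, rfl⟩

theorem Idx.appLE_hom (x : Γ(X, i.U)) :
    i.Z.hom.appLE i.U ⊤ i.le_preimage x = (Scheme.ΓSpecIso (.of i.A)).inv (algebraMap Γ(X, i.U) i.A x) := by
  refine (congr($(appLE_comp_fromSpec i.hU (Spec.map (CommRingCat.ofHom (algebraMap Γ(X, i.U) i.A)))
    i.le_preimage) x)).trans ?_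
  rw [← Scheme.ΓSpecIso_inv_naturality]
  rfl

/-- The coordinates of the universal quotient on a chart. -/
def Idx.coord (j : Fin i.n) (a : Fin r) : Γ(i.Z.left, ⊤) :=
  (Scheme.ΓSpecIso (.of i.A)).inv (Ideal.Quotient.mk i.J (colOf i.I MvPolynomial.X j a))

theorem Idx.coord_self (a b : Fin r) : i.coord (i.I a) b = if b = a then 1 else 0 := by
  rw [Idx.coord, normal_colOf i.I MvPolynomial.X a, Pi.single_apply]
  split <;> simp

theorem Idx.coord_rel (ρ : Fin i.n → Γ(X, i.U)) (hρ : ∑ j, ρ j • i.σ j = 0) (a : Fin r) :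
    ∑ j, i.Z.hom.appLE i.U ⊤ i.le_preimage (ρ j) * i.coord j a = 0 := by
  have h : Ideal.Quotient.mk i.J (∑ j, MvPolynomial.C (ρ j) * colOf i.I MvPolynomial.X j a) = 0 :=
    Ideal.Quotient.eq_zero_iff_mem.2 (Ideal.subset_span ⟨(⟨ρ, hρ⟩, a), rfl⟩)
  have h' := congrArg (Scheme.ΓSpecIso (.of i.A)).inv.hom h
  rw [map_sum, map_sum, map_zero] at h'
  refine Eq.trans (Finset.sum_congr rfl fun j _ => ?_) h'
  rw [i.appLE_hom, Idx.coord, map_mul, map_mul]
  rfl

variable [Coh.IsQCoh E]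

theorem Idx.exists_univ : ∃ D : QData E r i.Z.hom, D.L = FlatMod.freeMod i.Z.left r ∧
    ∃ f : Fin r → Γ(D.L, ⊤), IsFrame ⊤ f ∧
      ∀ j, vecS D i.le_preimage (i.σ j) = ∑ a, i.coord j a • f a := by
  classical
  let L := FlatMod.freeMod i.Z.left r
  let f := stdSec i.Z.left r
  have hL : FlatMod.IsFinLocFreeOfRank r L := fun _ => ⟨⊤, trivial, ⟨restrictFreeMod _ r⟩⟩
  obtain ⟨s, hs⟩ := exists_hom i.hU i.hσ i.Z.hom i.le_preimage (L := L) (fun j => ∑ a, i.coord j a • f a)
    (fun ρ hρ => by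
      simp only [Finset.smul_sum, smul_smul]
      rw [Finset.sum_comm]
      refine Finset.sum_eq_zero fun a _ => ?_
      rw [← Finset.sum_smul, i.coord_rel ρ hρ a, zero_smul])
  have hI : ∀ a, s.app ⊤ (pullMap i.Z.hom E i.le_preimage (i.σ (i.I a))) = f a := fun a => by
    rw [hs, Finset.sum_eq_single a]
    · rw [i.coord_self, if_pos rfl, one_smul]
    · intro b _ hb
      rw [i.coord_self, if_neg hb, zero_smul]
    · exact fun h => absurd (Finset.mem_univ a) h
  haveI : Epi s := by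
    refine (epi_iff_stalk s).2 fun x => ?_
    rw [← LinearMap.range_eq_top, eq_top_iff,
      ← (spanAt_iff_surjective f x trivial).2 (isFrame_stdSec i.Z.left r x trivial).2, Submodule.span_le]
    rintro _ ⟨a, rfl⟩
    refine ⟨_, (stalkLin_germ s (U := ⊤) x trivial _).trans (congrArg _ (hI a))⟩
  exact ⟨⟨L, s, hL, inferInstance⟩, rfl, f, isFrame_stdSec _ r, hs⟩

/-- The universal quotient on a chart. -/
def Idx.univD : QData E r i.Z.hom := i.exists_univ.choose

/-- The universal frame on a chart. -/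
def Idx.univF : Fin r → Γ(i.univD.L, ⊤) := i.exists_univ.choose_spec.2.choose

theorem Idx.isFrame_univF : IsFrame ⊤ i.univF := i.exists_univ.choose_spec.2.choose_spec.1

theorem Idx.vecS_univ (j : Fin i.n) : vecS i.univD i.le_preimage (i.σ j) = ∑ a, i.coord j a • i.univF a :=
  i.exists_univ.choose_spec.2.choose_spec.2 j

theorem Idx.vecS_univ_self (a : Fin r) : vecS i.univD i.le_preimage (i.σ (i.I a)) = i.univF a := by
  classical
  rw [i.vecS_univ, Finset.sum_eq_single a]
  · rw [i.coord_self, if_pos rfl, one_smul]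
  · intro b _ hb
    rw [i.coord_self, if_neg hb, zero_smul]
  · exact fun h => absurd (Finset.mem_univ a) h

theorem Idx.le_preimage_comp {S : Over X} (a : S ⟶ i.Z) : ⊤ ≤ S.hom ⁻¹ᵁ i.U := by
  rw [← Over.w a]
  exact fun x _ => i.le_preimage (x := a.left x) trivial

/-- The frame pulled back to a scheme over a chart. -/
def Idx.frameBC {S : Over X} (a : S ⟶ i.Z) : Fin r → Γ((i.univD.bc a.left (Over.w a)).L, ⊤) :=
  fun k => pullMap a.left i.univD.L (le_refl (⊤ : S.left.Opens)) (i.univF k)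

theorem Idx.isFrame_frameBC {S : Over X} (a : S ⟶ i.Z) : IsFrame ⊤ (i.frameBC a) := by
  refine (isFrame_iff_spanAt (i.univD.bc a.left (Over.w a)).rank _).2 fun x hx => ?_
  exact (spanAt_pullMap_iff a.left i.univD.rank (le_refl (⊤ : S.left.Opens)) hx).2
    ((isFrame_iff_spanAt i.univD.rank _).1 i.isFrame_univF _ trivial)

theorem Idx.vecS_bc {S : Over X} (a : S ⟶ i.Z) (j : Fin i.n) :
    vecS (i.univD.bc a.left (Over.w a)) (i.le_preimage_comp a) (i.σ j) =
      ∑ k, a.left.appTop (i.coord j k) • i.frameBC a k := by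
  rw [vecS_bc_top i.univD a.left (Over.w a) i.le_preimage (i.le_preimage_comp a), i.vecS_univ, map_sum]
  refine Finset.sum_congr rfl fun k _ => ?_
  rw [pullMap_smul]
  simp [Scheme.Hom.appLE, Idx.frameBC]

theorem Idx.hom_ext {S : Over X} {a b : S ⟶ i.Z}
    (h : ∀ j k, a.left.appTop (i.coord j k) = b.left.appTop (i.coord j k)) : a = b := by
  refine Over.OverMorphism.ext (AlgebraicGeometry.ext_to_Spec ?_)
  refine CommRingCat.hom_ext (Ideal.Quotient.ringHom_ext (MvPolynomial.ringHom_ext (fun x => ?_) (fun p => ?_)))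
  · have ha := Over.w a
    have hb := Over.w b
    have h1 : a.left ≫ Spec.map (CommRingCat.ofHom (algebraMap Γ(X, i.U) i.A)) =
        b.left ≫ Spec.map (CommRingCat.ofHom (algebraMap Γ(X, i.U) i.A)) := by
      rw [← cancel_mono i.hU.fromSpec, Category.assoc, Category.assoc]
      exact ha.trans hb.symm
    have h2 := congrArg (fun c => (Scheme.ΓSpecIso Γ(X, i.U)).inv ≫ c.appTop) h1
    simp only [Scheme.Hom.comp_appTop, ← Category.assoc, ← Scheme.ΓSpecIso_inv_naturality] at h2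
    exact congr($(h2) x)
  · have := h (p.2.1) p.1
    rw [Idx.coord, colOf_outside] at this
    exact this

theorem Idx.hinj (S : Over X) (a b : S ⟶ i.Z)
    (h : i.univD.cls.bc a.left (Over.w a) = i.univD.cls.bc b.left (Over.w b)) : a = b := by
  classical
  rw [QData.bc_cls, QData.bc_cls] at h
  haveI := (i.univD.bc a.left (Over.w a)).epi
  haveI := (i.univD.bc b.left (Over.w b)).epi
  obtain ⟨ε, hε⟩ := exists_iso_of_kerS_eq _ _ (congrArg Subtype.val h)
  have hv : ∀ j, ε.hom.app ⊤ (vecS (i.univD.bc a.left (Over.w a)) (i.le_preimage_comp a) (i.σ j)) =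
      vecS (i.univD.bc b.left (Over.w b)) (i.le_preimage_comp b) (i.σ j) := fun j => vecS_iso ε hε _ _
  simp only [Idx.vecS_bc, map_sum, Scheme.Modules.Hom.app_smul] at hv
  have hf : ∀ k, ε.hom.app ⊤ (i.frameBC a k) = i.frameBC b k := fun k => by
    have := hv (i.I k)
    simpa [i.coord_self, apply_ite a.left.appTop.hom, apply_ite b.left.appTop.hom, ite_smul, Finset.sum_ite_eq']
      using this
  simp only [hf] at hv
  refine i.hom_ext fun j k => ?_
  exact congrFun ((i.isFrame_frameBC b).bijective.1 (a₁ := fun k => a.left.appTop (i.coord j k))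
    (a₂ := fun k => b.left.appTop (i.coord j k))
    (by simpa only [Fintype.linearCombination_apply] using hv j)) k

/-- Membership in a chart: a quotient over `i.U` in which the chosen generators form a basis. -/
theorem Idx.exists_lift {S : Over X} (D : QData E r S.hom) (e : ⊤ ≤ S.hom ⁻¹ᵁ i.U)
    (hD : ∀ x : S.left, SpanAt (fun k => vecS D e (i.σ (i.I k))) x trivial) :
    ∃ a : S ⟶ i.Z, i.univD.cls.bc a.left (Over.w a) = D.cls := by
  classical
  let f := fun k => vecS D e (i.σ (i.I k))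
  have hf : IsFrame ⊤ f := (isFrame_iff_spanAt D.rank _).2 fun x _ => hD x
  choose c hc using fun j => hf.bijective.2 (vecS D e (i.σ j))
  simp only [Fintype.linearCombination_apply] at hc
  have hinj : ∀ {c c' : Fin r → Γ(S.left, ⊤)}, ∑ k, c k • f k = ∑ k, c' k • f k → c = c' := fun {c c'} h =>
    hf.bijective.1 (by simpa only [Fintype.linearCombination_apply] using h)
  have hnorm : Normal i.I c := fun a => hinj (by
    rw [hc, Finset.sum_eq_single a]
    · rw [Pi.single_eq_same, one_smul]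
    · intro b _ hb
      rw [Pi.single_eq_of_ne hb, zero_smul]
    · exact fun h => absurd (Finset.mem_univ a) h)
  let φP : i.P →+* Γ(S.left, ⊤) :=
    MvPolynomial.eval₂Hom (S.hom.appLE i.U ⊤ e).hom fun p => c p.2.1 p.1
  have hφ : ∀ j k, φP (colOf i.I MvPolynomial.X j k) = c j k := fun j k => by
    rw [colOf_ringHom]
    simp only [φP, MvPolynomial.eval₂Hom_X']
    exact congrFun (congrFun (colOf_of_normal i.I hnorm) j) k
  have hJ : ∀ p ∈ i.J, φP p = 0 := by
    suffices i.J ≤ RingHom.ker φP from fun p hp => this hp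
    refine Ideal.span_le.2 ?_
    rintro _ ⟨⟨⟨ρ, hρ⟩, k⟩, rfl⟩
    have h0 := vecS_sum D e ρ i.σ
    rw [hρ] at h0
    have h1 : (fun k => ∑ j, S.hom.appLE i.U ⊤ e (ρ j) * c j k) = 0 := hinj (by
      simp only [Finset.sum_smul, mul_smul]
      rw [Finset.sum_comm]
      simp only [← Finset.smul_sum, hc, Pi.zero_apply, zero_smul, Finset.sum_const_zero]
      rw [← h0]
      simp [vecS])
    show φP _ = 0
    simp only [map_sum, map_mul, hφ]
    simp only [φP, MvPolynomial.eval₂Hom_C]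
    exact congrFun h1 k
  let φ : CommRingCat.of i.A ⟶ Γ(S.left, ⊤) := CommRingCat.ofHom (Ideal.Quotient.lift i.J φP hJ)
  have hw : (S.left.toSpecΓ ≫ Spec.map φ) ≫ i.Z.hom = S.hom := by
    show (S.left.toSpecΓ ≫ Spec.map φ) ≫ Spec.map _ ≫ i.hU.fromSpec = _
    rw [Category.assoc, ← Category.assoc (Spec.map φ), ← Spec.map_comp]
    convert toSpecΓ_appLE_fromSpec i.hU S.hom e using 4
    refine CommRingCat.hom_ext (RingHom.ext fun x => ?_)
    show Ideal.Quotient.lift i.J φP hJ (Ideal.Quotient.mk i.J (MvPolynomial.C x)) = _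
    rw [Ideal.Quotient.lift_mk]
    exact MvPolynomial.eval₂Hom_C _ _ _
  let a : S ⟶ i.Z := Over.homMk (S.left.toSpecΓ ≫ Spec.map φ) hw
  have hφ' : ∀ x, a.left.appTop ((Scheme.ΓSpecIso (.of i.A)).inv x) = φ x := fun x => by
    show (Scheme.Hom.appTop (S.left.toSpecΓ ≫ Spec.map φ)) _ = _
    rw [Scheme.Hom.comp_appTop, ← ConcreteCategory.comp_apply, ← Category.assoc, ← Scheme.ΓSpecIso_inv_naturality,
      Category.assoc, Scheme.toSpecΓ_appTop, Iso.inv_hom_id, Category.comp_id]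
  refine ⟨a, ?_⟩
  rw [QData.bc_cls]
  let D₁ := i.univD.bc a.left (Over.w a)
  obtain ⟨ε, hε⟩ := exists_iso_frame (i.isFrame_frameBC a) hf
  have key : D₁.s ≫ ε.hom = D.s := by
    refine SpanAt.hom_ext fun x => ⟨⊤, Fin i.n, fun j => pullMap S.hom E e (i.σ j), trivial,
      spanAt_pullMap S.hom e trivial (spanAt_affine i.hU i.hσ (e trivial)), fun j => ?_⟩
    show ε.hom.app ⊤ (vecS D₁ e (i.σ j)) = vecS D e (i.σ j)
    rw [show vecS D₁ e (i.σ j) = ∑ k, a.left.appTop (i.coord j k) • i.frameBC a k from i.vecS_bc a j, map_sum,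
      ← hc j]
    refine Finset.sum_congr rfl fun k _ => ?_
    rw [Scheme.Modules.Hom.app_smul, hε]
    congr 1
    exact (hφ' _).trans ((Ideal.Quotient.lift_mk _ _ _).trans (hφ j k))
  refine Subtype.ext ?_
  show kerS D₁.s = kerS D.s
  rw [← key, kerS_comp_iso]

end Groth.Agent.GrassShLib
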