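import Groth.Agent.GrassShLib.Functor
import Groth.Agent.DegDevLib.Frame
import Groth.Agent.S10844

/-!
# Sections spanning stalks, and maps out of an inverse image given on generating sections
-/

set_option autoImplicit false
set_option backward.isDefEq.respectTransparency false
set_option linter.style.haveILetI false

universe u

open CategoryTheory CategoryTheory.Limits AlgebraicGeometry TopologicalSpace Opposite
open Groth.Agent.PullbackMod Groth.Agent.DegDevLib Groth.Agent.DCohLib
open scoped TensorProduct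

noncomputable section

namespace Groth.Agent.GrassShLib

variable {X T T' : Scheme.{u}}

/-- Sections whose germs span a stalk. -/
def SpanAt {L : T.Modules} {W : T.Opens} {ι : Type*} (v : ι → Γ(L, W)) (x : T) (hx : x ∈ W) : Prop :=
  Submodule.span (T.presheaf.stalk x) (Set.range fun i => L.presheaf.germ W x hx (v i)) = ⊤

theorem spanAt_iff_surjective {L : T.Modules} {W : T.Opens} {n : ℕ} (v : Fin n → Γ(L, W)) (x : T) (hx : x ∈ W) :
    SpanAt v x hx ↔ Function.Surjective
      (Fintype.linearCombination (T.presheaf.stalk x) fun i => L.presheaf.germ W x hx (v i)) := by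
  rw [SpanAt, ← Fintype.range_linearCombination, LinearMap.range_eq_top]

theorem bijective_of_spanAt {L : T.Modules} {r : ℕ} (hL : FlatMod.IsFinLocFreeOfRank r L) {W : T.Opens}
    {v : Fin r → Γ(L, W)} {x : T} {hx : x ∈ W} (h : SpanAt v x hx) :
    Function.Bijective (Fintype.linearCombination (T.presheaf.stalk x) fun i => L.presheaf.germ W x hx (v i)) := by
  have hL' : FlatMod.IsFinLocFree L := fun z => ⟨(hL z).choose, r, (hL z).choose_spec⟩
  obtain ⟨hq, hp⟩ := isQCoh_and_isFP_of_isFinLocFree L hL'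
  haveI := hq
  obtain ⟨a⟩ := (isFinLocFreeOfRank_iff_freeAt L hp r).1 hL x
  have hs := (spanAt_iff_surjective v x hx).1 h
  let l := Fintype.linearCombination (T.presheaf.stalk x) fun i => L.presheaf.germ W x hx (v i)
  exact ⟨(Function.Injective.of_comp (f := a)
    (OrzechProperty.injective_of_surjective_endomorphism (a.toLinearMap ∘ₗ l) (a.surjective.comp hs))), hs⟩

theorem isFrame_iff_spanAt {L : T.Modules} {r : ℕ} (hL : FlatMod.IsFinLocFreeOfRank r L) {W : T.Opens}
    (v : Fin r → Γ(L, W)) : IsFrame W v ↔ ∀ (x : T) (hx : x ∈ W), SpanAt v x hx :=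
  ⟨fun h x hx => (spanAt_iff_surjective v x hx).2 (h x hx).2, fun h x hx => bijective_of_spanAt hL (h x hx)⟩

theorem SpanAt.map {L L' : T.Modules} (s : L ⟶ L') [Epi s] {W : T.Opens} {ι : Type*} {v : ι → Γ(L, W)} {x : T}
    {hx : x ∈ W} (h : SpanAt v x hx) : SpanAt (fun i => s.app W (v i)) x hx := by
  have h1 := congrArg (Submodule.map (stalkLin s x)) h
  rw [Submodule.map_span, Submodule.map_top, LinearMap.range_eq_top.2 ((epi_iff_stalk s).1 inferInstance x),
    ← Set.range_comp] at h1
  rw [SpanAt, ← h1]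
  congr 2
  funext i
  exact (stalkLin_germ s x hx (v i)).symm

theorem SpanAt.hom_ext {M N : T.Modules} {φ ψ : M ⟶ N}
    (h : ∀ x : T, ∃ (W : T.Opens) (ι : Type) (v : ι → Γ(M, W)) (hx : x ∈ W),
      SpanAt v x hx ∧ ∀ i, φ.app W (v i) = ψ.app W (v i)) : φ = ψ := by
  refine hom_ext_stalk fun x => ?_
  obtain ⟨W, ι, v, hx, hv, he⟩ := h x
  refine LinearMap.ext_on hv ?_
  rintro _ ⟨i, rfl⟩
  exact (stalkLin_germ φ x hx (v i)).trans ((congrArg _ (he i)).trans (stalkLin_germ ψ x hx (v i)).symm)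

theorem spanAt_pullMap (t : T' ⟶ T) {L : T.Modules} [Coh.IsQCoh L] {W : T.Opens} {W' : T'.Opens}
    (e : W' ≤ t ⁻¹ᵁ W) {ι : Type*} {v : ι → Γ(L, W)} {y : T'} (hy : y ∈ W') (h : SpanAt v (t y) (e hy)) :
    SpanAt (fun i => pullMap t L e (v i)) y hy := by
  letI : Algebra (T.presheaf.stalk (t y)) (T'.presheaf.stalk y) := (t.stalkMap y).hom.toAlgebra
  let gM := (Scheme.Modules.pullback t).obj L
  letI := Module.compHom (gM.presheaf.stalk y) (t.stalkMap y).hom
  haveI : IsScalarTower (T.presheaf.stalk (t y)) (T'.presheaf.stalk y) (gM.presheaf.stalk y) :=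
    .of_algebraMap_smul fun _ _ => rfl
  have hb : IsBaseChange (T'.presheaf.stalk y) (pullStalkL t L y) := isBaseChange_pullStalkL t L y
  refine eq_top_iff.2 fun z hz => ?_
  clear hz
  induction z using hb.inductionOn with
  | zero => exact zero_mem _
  | tmul w =>
    have hw : w ∈ Submodule.span (T.presheaf.stalk (t y))
        (Set.range fun i => L.presheaf.germ W (t y) (e hy) (v i)) := by
      rw [h]; trivial
    have h2 := Submodule.apply_mem_span_image_of_mem_span (pullStalkL t L y) hw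
    refine Submodule.span_le_restrictScalars (T.presheaf.stalk (t y)) (T'.presheaf.stalk y) _ ?_
    rw [← Set.range_comp] at h2
    refine Submodule.span_mono ?_ h2
    rintro _ ⟨i, rfl⟩
    exact ⟨i, (pullStalk_germ' t L y (e hy) hy e _).symm⟩
  | smul c z hz => exact Submodule.smul_mem _ c hz
  | add a b ha hb => exact add_mem ha hb

theorem spanAt_of_pullMap (t : T' ⟶ T) {L : T.Modules} [Coh.IsQCoh L] (hL : CohB1.IsFT L) {W : T.Opens}
    {W' : T'.Opens} (e : W' ≤ t ⁻¹ᵁ W) {n : ℕ} {v : Fin n → Γ(L, W)} {y : T'} (hy : y ∈ W')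
    (h : SpanAt (fun i => pullMap t L e (v i)) y hy) : SpanAt v (t y) (e hy) := by
  classical
  letI : Algebra (T.presheaf.stalk (t y)) (T'.presheaf.stalk y) := (t.stalkMap y).hom.toAlgebra
  let gM := (Scheme.Modules.pullback t).obj L
  letI := Module.compHom (gM.presheaf.stalk y) (t.stalkMap y).hom
  haveI : IsScalarTower (T.presheaf.stalk (t y)) (T'.presheaf.stalk y) (gM.presheaf.stalk y) :=
    .of_algebraMap_smul fun _ _ => rfl
  have hb : IsBaseChange (T'.presheaf.stalk y) (pullStalkL t L y) := isBaseChange_pullStalkL t L y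
  haveI := finite_stalk_of_isFT hL (t y)
  haveI : IsLocalHom (algebraMap (T.presheaf.stalk (t y)) (T'.presheaf.stalk y)) := t.toLRSHom.prop y
  let w := fun i => L.presheaf.germ W (t y) (e hy) (v i)
  let l := Fintype.linearCombination (T.presheaf.stalk (t y)) w
  refine (spanAt_iff_surjective v _ _).2 (S10844.surjective_of_lTensor (S := T'.presheaf.stalk y) l ?_)
  rw [← LinearMap.baseChange_eq_ltensor, ← LinearMap.range_eq_top]
  apply Submodule.map_injective_of_injective hb.equiv.injective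
  rw [Submodule.map_top, LinearEquiv.range, eq_top_iff, ← h, Submodule.span_le]
  rintro _ ⟨i, rfl⟩
  refine ⟨1 ⊗ₜ[T.presheaf.stalk (t y)] w i, ⟨1 ⊗ₜ[T.presheaf.stalk (t y)] Pi.single i 1, ?_⟩, ?_⟩
  · rw [LinearMap.baseChange_tmul, Fintype.linearCombination_apply_single, one_smul]
  · show hb.equiv (1 ⊗ₜ[T.presheaf.stalk (t y)] w i) = _
    rw [IsBaseChange.equiv_tmul, one_smul]
    exact pullStalk_germ' t L y (e hy) hy e _

theorem spanAt_pullMap_iff (t : T' ⟶ T) {L : T.Modules} {r : ℕ} (hL : FlatMod.IsFinLocFreeOfRank r L)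
    {W : T.Opens} {W' : T'.Opens} (e : W' ≤ t ⁻¹ᵁ W) {n : ℕ} {v : Fin n → Γ(L, W)} {y : T'} (hy : y ∈ W') :
    SpanAt (fun i => pullMap t L e (v i)) y hy ↔ SpanAt v (t y) (e hy) := by
  have hL' : FlatMod.IsFinLocFree L := fun z => ⟨(hL z).choose, r, (hL z).choose_spec⟩
  obtain ⟨hq, hp⟩ := isQCoh_and_isFP_of_isFinLocFree L hL'
  haveI := hq
  exact ⟨spanAt_of_pullMap t (ExactConstrLib.isFT_of_isFP hp) e hy, spanAt_pullMap t e hy⟩

theorem spanAt_affine {E : X.Modules} [Coh.IsQCoh E] {U : X.Opens} (hU : IsAffineOpen U) {ι : Type*}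
    {σ : ι → Γ(E, U)} (hσ : Submodule.span Γ(X, U) (Set.range σ) = ⊤) {x : X} (hx : x ∈ U) :
    SpanAt σ x hx := by
  letI : Algebra Γ(X, U) (X.presheaf.stalk x) := (X.presheaf.germ U x hx).hom.toAlgebra
  letI := Module.compHom (E.presheaf.stalk x) (X.presheaf.germ U x hx).hom
  haveI : IsScalarTower Γ(X, U) (X.presheaf.stalk x) (E.presheaf.stalk x) :=
    .of_algebraMap_smul fun _ _ => rfl
  haveI := FlatLocus.isLocalizedModule_germL E hU x hx
  haveI : IsLocalization (hU.primeIdealOf ⟨x, hx⟩).asIdeal.primeCompl (X.presheaf.stalk x) :=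
    hU.isLocalization_stalk ⟨x, hx⟩
  have h := span_eq_top_of_isLocalizedModule (X.presheaf.stalk x) (hU.primeIdealOf ⟨x, hx⟩).asIdeal.primeCompl
    (FlatLocus.germL E U x hx) (v := Set.range σ) hσ
  rw [← Set.range_comp] at h
  exact h

theorem exists_nhd_spanAt {L : T.Modules} {r : ℕ} (hL : FlatMod.IsFinLocFreeOfRank r L) {W : T.Opens} {n : ℕ}
    (v : Fin n → Γ(L, W)) {x : T} {hx : x ∈ W} (h : SpanAt v x hx) :
    ∃ V : T.Opens, x ∈ V ∧ ∃ hV : V ≤ W, ∀ (y : T) (hy : y ∈ V), SpanAt v y (hV hy) := by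
  classical
  obtain ⟨_, ⟨A : T.Opens, hA : IsAffineOpen A, rfl⟩, hxA, -⟩ :=
    T.isBasis_affineOpens.exists_subset_of_mem_open (Set.mem_univ x) isOpen_univ
  obtain ⟨U, f, hxU, -, hf⟩ := exists_frame hL (Set.finite_singleton x) hA (Set.singleton_subset_iff.2 hxA)
  have hxU : x ∈ U := hxU rfl
  choose c hc using fun b => (spanAt_iff_surjective v x hx).1 h (L.presheaf.germ U x hxU (f b))
  choose O hO c' hc' using fun b j => TopCat.Presheaf.exists_germ_eq T.presheaf (c b j)
  let V₁ : T.Opens := (Finset.univ.inf fun b => Finset.univ.inf fun j => O b j) ⊓ (U ⊓ W)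
  have hle : ∀ b j, V₁ ≤ O b j := fun b j => inf_le_left.trans
    ((Finset.inf_le (Finset.mem_univ b)).trans (Finset.inf_le (f := fun j => O b j) (Finset.mem_univ j)))
  have hmem : x ∈ V₁ := ⟨by
    simp only [SetLike.mem_coe, TopologicalSpace.Opens.mem_mk, TopologicalSpace.Opens.coe_finset_inf,
      Finset.inf_set_eq_iInter, Set.mem_iInter, Function.comp_apply]
    exact fun b _ j _ => hO b j, hxU, hx⟩
  have hVU : V₁ ≤ U := inf_le_right.trans inf_le_left
  have hVW : V₁ ≤ W := inf_le_right.trans inf_le_right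
  let lhs := fun b => ∑ j, T.presheaf.map (homOfLE (hle b j)).op (c' b j) • L.presheaf.map (homOfLE hVW).op (v j)
  have hgerm : ∀ b (y : T) (hy : y ∈ V₁), L.presheaf.germ V₁ y hy (lhs b) =
      ∑ j, T.presheaf.germ (O b j) y (hle b j hy) (c' b j) • L.presheaf.germ W y (hVW hy) (v j) := fun b y hy => by
    simp only [lhs, map_sum]
    refine Finset.sum_congr rfl fun j _ => ?_
    erw [PresheafOfModules.germ_smul (R := T.presheaf) L.val y V₁ hy]
    erw [TopCat.Presheaf.germ_res_apply, TopCat.Presheaf.germ_res_apply]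
    rfl
  have heq : ∀ b, ∃ (V : T.Opens) (hV : V ≤ V₁), x ∈ V ∧ L.presheaf.map (homOfLE hV).op (lhs b) =
      L.presheaf.map (homOfLE (hV.trans hVU)).op (f b) := fun b => by
    have h1 : L.presheaf.germ V₁ x hmem (lhs b) =
        L.presheaf.germ V₁ x hmem (L.presheaf.map (homOfLE hVU).op (f b)) := by
      rw [hgerm, TopCat.Presheaf.germ_res_apply, ← hc b, Fintype.linearCombination_apply]
      exact Finset.sum_congr rfl fun j _ => by rw [hc']
    obtain ⟨V, hxV, i, i', he⟩ := TopCat.Presheaf.germ_eq L.presheaf x hmem hmem _ _ h1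
    refine ⟨V, i.le, hxV, ?_⟩
    rw [← ConcreteCategory.comp_apply, ← L.presheaf.map_comp] at he
    exact he
  choose V hV hxV hVeq using heq
  refine ⟨Finset.univ.inf V ⊓ V₁, ⟨by
    simp only [SetLike.mem_coe, TopologicalSpace.Opens.mem_mk, TopologicalSpace.Opens.coe_finset_inf,
      Finset.inf_set_eq_iInter, Set.mem_iInter, Function.comp_apply]
    exact fun b _ => hxV b, hmem⟩, inf_le_right.trans hVW, fun y hy => ?_⟩
  refine eq_top_iff.2 ?_
  rw [← (spanAt_iff_surjective f y (hVU hy.2)).2 (hf y (hVU hy.2)).2, Submodule.span_le]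
  rintro _ ⟨b, rfl⟩
  have hyb : y ∈ V b := (inf_le_left.trans (Finset.inf_le (Finset.mem_univ b)) : _ ≤ V b) hy
  have h2 := congrArg (L.presheaf.germ (V b) y hyb) (hVeq b)
  rw [TopCat.Presheaf.germ_res_apply, TopCat.Presheaf.germ_res_apply, hgerm] at h2
  show L.presheaf.germ U y _ (f b) ∈ _
  rw [← h2]
  exact sum_mem fun j _ => Submodule.smul_mem _ _ (Submodule.subset_span ⟨j, rfl⟩)

/-- The open locus where sections span. -/
def spanLocus {L : T.Modules} {r : ℕ} (hL : FlatMod.IsFinLocFreeOfRank r L) {W : T.Opens} {n : ℕ}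
    (v : Fin n → Γ(L, W)) : T.Opens :=
  ⟨{x | ∃ hx : x ∈ W, SpanAt v x hx}, isOpen_iff_forall_mem_open.2 fun _ ⟨_, h⟩ =>
    let ⟨V, hxV, hVW, hV⟩ := exists_nhd_spanAt hL v h
    ⟨V, fun y hy => ⟨hVW hy, hV y hy⟩, V.2, hxV⟩⟩

theorem app_secHom {L L' : T.Modules} (s : L ⟶ L') (m : Γ(L, ⊤)) : secHom L m ≫ s = secHom L' (s.app ⊤ m) :=
  hom_unit_ext (by
    show s.app ⊤ ((secHom L m).app ⊤ (1 : Γ(T, ⊤))) = _
    rw [secHom_app_one, secHom_app_one]
    exact app_natural s le_rfl m)

theorem app_descS {M : T.Modules} {n : ℕ} (v : Fin n → Γ(M, ⊤)) {L : T.Modules} (s : M ⟶ L) :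
    descS v ≫ s = descS fun j => s.app ⊤ (v j) :=
  Sigma.hom_ext _ _ fun j => by rw [descS, descS, Sigma.ι_desc_assoc, Sigma.ι_desc, app_secHom]

theorem descS_injective {M : T.Modules} {n : ℕ} {v w : Fin n → Γ(M, ⊤)} (h : descS v = descS w) : v = w := by
  funext j
  have h1 := congrArg (Sigma.ι (fun _ : Fin n => Coh.structureModule T) j ≫ ·) h
  simp only [descS, Sigma.ι_desc] at h1
  have h2 := congrArg (fun φ : Coh.structureModule T ⟶ M => φ.app ⊤ (1 : Γ(T, ⊤))) h1
  simp only [secHom_app_one] at h2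
  simpa using h2

theorem surjective_descS {M : T.Modules} {n : ℕ} (v : Fin n → Γ(M, ⊤)) (x : T) (h : SpanAt v x trivial) :
    Function.Surjective (stalkLin (descS v) x) := by
  rw [← LinearMap.range_eq_top, eq_top_iff, ← h, Submodule.span_le]
  rintro _ ⟨j, rfl⟩
  exact ⟨stdGerm n x j, descS_stdGerm v x j⟩

/-- Maps out of an inverse image given on generating sections. -/
theorem exists_hom {E : X.Modules} [Coh.IsQCoh E] {U : X.Opens} (hU : IsAffineOpen U) {n : ℕ}
    {σ : Fin n → Γ(E, U)} (hσ : Submodule.span Γ(X, U) (Set.range σ) = ⊤) (g : T ⟶ X) (e : ⊤ ≤ g ⁻¹ᵁ U)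
    {L : T.Modules} (v : Fin n → Γ(L, ⊤))
    (hrel : ∀ ρ : Fin n → Γ(X, U), ∑ j, ρ j • σ j = 0 → ∑ j, g.appLE U ⊤ e (ρ j) • v j = 0) :
    ∃ s : (Scheme.Modules.pullback g).obj E ⟶ L, ∀ j, s.app ⊤ (pullMap g E e (σ j)) = v j := by
  classical
  let M := (Scheme.Modules.pullback g).obj E
  let φ := descS (X := T) fun j => pullMap g E e (σ j)
  let ψ := descS (X := T) v
  haveI : Epi φ := (epi_iff_stalk φ).2 fun x =>
    surjective_descS _ x (spanAt_pullMap g e trivial (spanAt_affine hU hσ (e trivial)))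
  have hker : ∀ x, kerS φ x ≤ kerS ψ x := fun x z hz => by
    obtain ⟨r, rfl⟩ := (stdGerm_bijective (X := T) n x).2 z
    let R := Γ(X, U)
    let A := X.presheaf.stalk (g x)
    let B := T.presheaf.stalk x
    let EA := E.presheaf.stalk (g x)
    let MB := M.presheaf.stalk x
    let LB := L.presheaf.stalk x
    letI : Algebra R A := (X.presheaf.germ U (g x) (e trivial)).hom.toAlgebra
    letI : Algebra A B := (g.stalkMap x).hom.toAlgebra
    letI iEA : Module R EA := Module.compHom EA (X.presheaf.germ U (g x) (e trivial)).hom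
    haveI : IsScalarTower R A EA := .of_algebraMap_smul fun _ _ => rfl
    letI : Module A LB := Module.compHom LB (g.stalkMap x).hom
    haveI : IsScalarTower A B LB := .of_algebraMap_smul fun _ _ => rfl
    letI : Module A MB := Module.compHom MB (g.stalkMap x).hom
    haveI : IsScalarTower A B MB := .of_algebraMap_smul fun _ _ => rfl
    letI : Module R LB := Module.compHom LB (X.presheaf.germ U (g x) (e trivial)).hom
    haveI : IsScalarTower R A LB := .of_algebraMap_smul fun _ _ => rfl
    let p : (Fin n → R) →ₗ[R] Γ(E, U) := Fintype.linearCombination R σ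
    have hp : Function.Surjective p := by
      rw [← LinearMap.range_eq_top, Fintype.range_linearCombination, hσ]
    let f₀ : (Fin n → R) →ₗ[R] LB := Fintype.linearCombination R fun j => L.presheaf.germ ⊤ x trivial (v j)
    have hscal : ∀ (a : R) (w : LB), a • w = T.presheaf.germ ⊤ x trivial (g.appLE U ⊤ e a) • w := fun a w => by
      show g.stalkMap x (X.presheaf.germ U (g x) (e trivial) a) • w = _
      rw [germ_stalkMap_appLE g (W' := ⊤) x (e trivial) trivial e a]
    have hle : LinearMap.ker p ≤ LinearMap.ker f₀ := fun ρ hρ => by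
      rw [LinearMap.mem_ker, Fintype.linearCombination_apply] at hρ ⊢
      have h := congrArg (L.presheaf.germ ⊤ x trivial) (hrel ρ hρ)
      rw [map_sum, map_zero] at h
      refine Eq.trans (Finset.sum_congr rfl fun j _ => ?_) h
      rw [hscal]
      exact (PresheafOfModules.germ_smul (R := T.presheaf) L.val x ⊤ trivial _ (v j)).symm
    let f₁ : Γ(E, U) →ₗ[R] LB :=
      (LinearMap.ker p).liftQ f₀ hle ∘ₗ (p.quotKerEquivOfSurjective hp).symm.toLinearMap
    have hf₁ : ∀ j, f₁ (σ j) = L.presheaf.germ ⊤ x trivial (v j) := fun j => by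
      have hj : p (Pi.single j 1) = σ j := by simp [p, Fintype.linearCombination_apply_single]
      have hq : (p.quotKerEquivOfSurjective hp).symm (σ j) = Submodule.Quotient.mk (Pi.single j 1) := by
        rw [LinearEquiv.symm_apply_eq]
        exact hj.symm
      show (LinearMap.ker p).liftQ f₀ hle ((p.quotKerEquivOfSurjective hp).symm (σ j)) = _
      rw [hq, Submodule.liftQ_apply, Fintype.linearCombination_apply_single, one_smul]
    let S := (hU.primeIdealOf ⟨g x, e trivial⟩).asIdeal.primeCompl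
    haveI : IsLocalization S A := hU.isLocalization_stalk ⟨g x, e trivial⟩
    haveI := FlatLocus.isLocalizedModule_germL E hU (g x) (e trivial)
    have hunit : ∀ a : S, IsUnit (algebraMap R (Module.End R LB) a) := fun a => by
      obtain ⟨w, hw⟩ := IsLocalization.map_units A a
      rw [Module.End.isUnit_iff]
      refine Function.bijective_iff_has_inverse.2
        ⟨fun z => (↑w⁻¹ : A) • z, fun z => ?_, fun z => ?_⟩
      · show (↑w⁻¹ : A) • (a : R) • z = z
        rw [algebra_compatible_smul A (a : R) z, ← hw, ← mul_smul, Units.inv_mul, one_smul]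
      · show (a : R) • (↑w⁻¹ : A) • z = z
        rw [algebra_compatible_smul A (a : R), ← hw, ← mul_smul, Units.mul_inv, one_smul]
    let f₂ : EA →ₗ[R] LB := IsLocalizedModule.lift S (FlatLocus.germL E U (g x) (e trivial)) f₁ hunit
    let f₃ : EA →ₗ[A] LB := LinearMap.extendScalarsOfIsLocalization S A f₂
    have hb : IsBaseChange B (pullStalkL g E x) := isBaseChange_pullStalkL g E x
    let G : MB →ₗ[B] LB := hb.lift f₃
    have hG : ∀ j, G (M.presheaf.germ ⊤ x trivial (pullMap g E e (σ j))) = L.presheaf.germ ⊤ x trivial (v j) :=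
      fun j => by
      rw [← pullStalk_germ' g E (W' := ⊤) x (e trivial) trivial e (σ j)]
      refine (hb.lift_eq f₃ _).trans ?_
      show f₂ (FlatLocus.germL E U (g x) (e trivial) (σ j)) = _
      rw [IsLocalizedModule.lift_apply, hf₁]
    rw [mem_kerS, Fintype.linearCombination_apply, map_sum] at hz ⊢
    simp only [map_smul, φ, ψ, descS_stdGerm] at hz ⊢
    have h := congrArg G hz
    rw [map_sum, map_zero] at h
    refine Eq.trans (Finset.sum_congr rfl fun j _ => ?_) h
    exact ((G.map_smul _ _).trans (congrArg (r j • ·) (hG j))).symm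
  obtain ⟨s, hs⟩ := exists_factor_of_kerS_le φ ψ hker
  refine ⟨s, fun j => ?_⟩
  rw [app_descS] at hs
  exact congrFun (descS_injective hs) j

end Groth.Agent.GrassShLib
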