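import Groth.Agent.GrassShLib.Pluecker
import Groth.Agent.ExtPowLib.Unique
import Groth.Agent.ProjBundleLib.ProjMor

/-!
# Grassmannians are proper and projective
-/

set_option autoImplicit false
set_option backward.isDefEq.respectTransparency false
set_option linter.style.haveILetI false

universe u

open CategoryTheory CategoryTheory.Limits AlgebraicGeometry TopologicalSpace Opposite Grass
open Groth.Agent.PullbackMod Groth.Agent.FlagLib

noncomputable section

namespace Groth.Agent.GrassShLib

variable {X : Scheme.{u}}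

theorem isInvertible_iff_rank_one {L : X.Modules} :
    PicF.IsInvertible L ↔ FlatMod.IsFinLocFreeOfRank 1 L :=
  forall_congr' fun _ => exists_congr fun U => and_congr_right fun _ =>
    ⟨fun ⟨e⟩ => ⟨e ≪≫ (coproductUniqueIso fun _ : Fin 1 => Coh.structureModule (↑U : Scheme.{u})).symm⟩,
      fun ⟨e⟩ => ⟨e ≪≫ coproductUniqueIso fun _ : Fin 1 => Coh.structureModule (↑U : Scheme.{u})⟩⟩

/-- A projective bundle is the Grassmannian of rank one quotients. -/
theorem isGrass_of_pdata {P : Scheme.{u}} {p : P ⟶ X} {E : X.Modules} {O1 : P.Modules}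
    {φ : E ⟶ (Scheme.Modules.pushforward p).obj O1} (D : ProjBundleLib.PData p E O1 φ) :
    IsGrass p E 1 O1 (((Scheme.Modules.pullbackPushforwardAdjunction p).homEquiv E O1).symm φ) where
  rank := isInvertible_iff_rank_one.1 D.isInvertible_O1
  epi := D.epi_adjunct
  univ _ _ _ hL s _ := D.existsUnique_factor (isInvertible_iff_rank_one.2 hL) s

theorem exists_isGrass_one_proper (L : X.Modules) [Coh.IsQCoh L] (hft : CohB1.IsFT L) :
    ∃ (P : Scheme.{u}) (p : P ⟶ X) (O1 : P.Modules) (qP : (Scheme.Modules.pullback p).obj L ⟶ O1),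
      IsGrass p L 1 O1 qP ∧ IsProper p ∧
        ∀ {G : Scheme.{u}} (π : G ⟶ X) (c : G ⟶ P) [IsClosedImmersion c], c ≫ p = π → RelProj.IsProjective π := by
  obtain ⟨P, p, O1, φ, ⟨D⟩⟩ := ProjBundleLib.exists_bundle (E := L) inferInstance
  refine ⟨P, p, O1, _, isGrass_of_pdata D, D.isProper hft, fun π c hc h => ?_⟩
  exact D.isProjective_of_isClosedImmersion hft c h

theorem exists_isExtPow_isFT (E : X.Modules) [Coh.IsQCoh E] (hE : CohB1.IsFT E) (r : ℕ) :
    ∃ L : X.Modules, Coh.IsQCoh L ∧ CohB1.IsFT L ∧ ExtPow.IsExtPow r E L := by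
  obtain ⟨L, hq, hL⟩ := ExtPowLib.exists_isExtPow E r
  haveI := hq
  refine ⟨L, hq, ?_, hL⟩
  exact QCohLib.isFiniteType_of_finite L (fun U : X.affineOpens => U.1) (fun U => U.2)
    (iSup_affineOpens_eq_top X) (fun U => ExtPowLib.isFT_of_isExtPow E r hE hL U.2)

variable {G : Scheme.{u}} {π : G ⟶ X} {E : X.Modules} [Coh.IsQCoh E] {r : ℕ} {Q : G.Modules}
  {q : (Scheme.Modules.pullback π).obj E ⟶ Q} (hG : IsGrass π E r Q q) (hE : CohB1.IsFT E)

include hG hE in
/-- A Grassmannian of a module of finite type is projective. -/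
theorem isProjective_grass : RelProj.IsProjective π := by
  obtain ⟨L, hq, hft, hL⟩ := exists_isExtPow_isFT E hE r
  haveI := hq
  obtain ⟨P, p, O1, qP, hP, -, hproj⟩ := exists_isGrass_one_proper L hft
  haveI := isClosedImmersion_plMap hG hE hL hP
  exact hproj π (plMap hG hE hL hP) (plMap_comp hG hE hL hP)

include hG hE in
/-- A Grassmannian of a module of finite type is proper. -/
theorem isProper_grass : IsProper π := by
  obtain ⟨L, hq, hft, hL⟩ := exists_isExtPow_isFT E hE r
  haveI := hq
  obtain ⟨P, p, O1, qP, hP, hp, -⟩ := exists_isGrass_one_proper L hft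
  haveI := isClosedImmersion_plMap hG hE hL hP
  haveI := hp
  rw [← plMap_comp hG hE hL hP]
  infer_instance

end Groth.Agent.GrassShLib
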