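import Groth.Agent.GrassShLib.Main

/-!
# Charts and separatedness of a Grassmannian
-/

set_option autoImplicit false
set_option backward.isDefEq.respectTransparency false
set_option linter.style.haveILetI false

universe u

open CategoryTheory CategoryTheory.Limits AlgebraicGeometry TopologicalSpace Opposite Grass
open Groth.Agent.PullbackMod Groth.Agent.FlagLib Groth.Agent.DegDevLib

noncomputable section

namespace Groth.Agent.GrassShLib

variable {X G : Scheme.{u}} {E : X.Modules} {r : ℕ} {π : G ⟶ X} {Q : G.Modules}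
  {q : (Scheme.Modules.pullback π).obj E ⟶ Q} (hG : IsGrass π E r Q q)

include hG in
/-- The universal quotient, bundled. -/
theorem univ_existsUnique {T : Scheme.{u}} {g : T ⟶ X} (D : QData E r g) :
    ∃! h : T ⟶ G, ∃ hg : h ≫ π = g,
      (QData.bc (⟨Q, q, hG.rank, hG.epi⟩ : QData E r π) h hg).cls = D.cls := by
  have key : ∀ (h : T ⟶ G) (hg : h ≫ π = g),
      (QData.bc (⟨Q, q, hG.rank, hG.epi⟩ : QData E r π) h hg).cls = D.cls ↔
        ∃ e : (Scheme.Modules.pullback h).obj Q ≅ D.L, quotBC hg q ≫ e.hom = D.s := fun h hg => by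
    constructor
    · intro hh
      haveI := hG.epi
      haveI := epi_qb q hg
      haveI := D.epi
      exact exists_iso_of_kerS_eq (qb q hg) D.s (congrArg Subtype.val hh)
    · rintro ⟨e, he⟩
      refine Subtype.ext ?_
      show kerS (qb q hg) = kerS D.s
      rw [← he]
      exact (kerS_comp_iso _ e).symm
  obtain ⟨h, ⟨hg, e, he⟩, huniq⟩ := hG.univ T g D.L D.rank D.s D.epi
  exact ⟨h, ⟨hg, (key h hg).2 ⟨e, he⟩⟩, fun h' ⟨hg', hh'⟩ => huniq h' ⟨hg', (key h' hg').1 hh'⟩⟩

/-- The classifying morphism of a quotient. -/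
def clsMap {T : Scheme.{u}} {g : T ⟶ X} (D : QData E r g) : T ⟶ G := (univ_existsUnique hG D).exists.choose

theorem clsMap_comp {T : Scheme.{u}} {g : T ⟶ X} (D : QData E r g) : clsMap hG D ≫ π = g :=
  (univ_existsUnique hG D).exists.choose_spec.1

theorem bc_clsMap {T : Scheme.{u}} {g : T ⟶ X} (D : QData E r g) :
    RQ.bc (QData.cls (⟨Q, q, hG.rank, hG.epi⟩ : QData E r π)) (clsMap hG D) (clsMap_comp hG D) = D.cls := by
  rw [QData.bc_cls]
  exact (univ_existsUnique hG D).exists.choose_spec.2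

include hG in
theorem hom_ext_of_cls {T : Scheme.{u}} {g : T ⟶ X} {a b : T ⟶ G} (ha : a ≫ π = g) (hb : b ≫ π = g)
    (h : RQ.bc (QData.cls (⟨Q, q, hG.rank, hG.epi⟩ : QData E r π)) a ha =
      RQ.bc (QData.cls (⟨Q, q, hG.rank, hG.epi⟩ : QData E r π)) b hb) : a = b := by
  rw [QData.bc_cls, QData.bc_cls] at h
  exact (univ_existsUnique hG (QData.bc (⟨Q, q, hG.rank, hG.epi⟩ : QData E r π) b hb)).unique ⟨ha, h⟩ ⟨hb, rfl⟩

/-! ### Charts -/

variable [Coh.IsQCoh E] (i : Idx E r)

/-- The open part of the Grassmannian of a chart. -/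
def chartOpen : G.Opens :=
  (exists_open_chart i (Over.mk π) (QData.cls (⟨Q, q, hG.rank, hG.epi⟩ : QData E r π))).choose

theorem chartOpen_spec (T : Over X) (t : T ⟶ Over.mk π) :
    (∃ a : T ⟶ i.Z, i.univD.cls.bc a.left (Over.w a) =
        RQ.bc (QData.cls (⟨Q, q, hG.rank, hG.epi⟩ : QData E r π)) t.left (Over.w t)) ↔
      Set.range t.left ⊆ (chartOpen hG i : Set G) :=
  (exists_open_chart i (Over.mk π) (QData.cls (⟨Q, q, hG.rank, hG.epi⟩ : QData E r π))).choose_spec T t

/-- The morphism of a chart to the Grassmannian. -/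
def chartMap : i.Z.left ⟶ G := clsMap hG i.univD

theorem chartMap_comp : chartMap hG i ≫ π = i.Z.hom := clsMap_comp hG _

theorem range_chartMap_subset : Set.range (chartMap hG i) ⊆ chartOpen hG i :=
  (chartOpen_spec hG i i.Z (Over.homMk (chartMap hG i) (chartMap_comp hG i))).1
    ⟨𝟙 _, (RQ.bc_id _).trans (bc_clsMap hG i.univD).symm⟩

/-- The chart is the open part. -/
theorem exists_iso_chartOpen : ∃ e : i.Z.left ≅ (chartOpen hG i : Scheme.{u}),
    e.hom ≫ (chartOpen hG i).ι = chartMap hG i := by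
  let V := chartOpen hG i
  let T : Over X := Over.mk (V.ι ≫ π)
  obtain ⟨a, ha⟩ := (chartOpen_spec hG i T (Over.homMk V.ι rfl)).2 (by
    show Set.range V.ι ⊆ _; rw [Scheme.Opens.range_ι])
  let b : i.Z.left ⟶ (V : Scheme.{u}) :=
    IsOpenImmersion.lift V.ι (chartMap hG i) (by rw [Scheme.Opens.range_ι]; exact range_chartMap_subset hG i)
  have hb : b ≫ V.ι = chartMap hG i := IsOpenImmersion.lift_fac _ _ _
  refine ⟨⟨b, a.left, ?_, ?_⟩, hb⟩
  · let b' : i.Z ⟶ T := Over.homMk b (by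
      show b ≫ V.ι ≫ π = i.Z.hom
      rw [reassoc_of% hb, chartMap_comp])
    have h := i.hinj i.Z (b' ≫ a) (𝟙 _) (by
      refine Eq.trans ?_ (RQ.bc_id _).symm
      have h1 : RQ.bc i.univD.cls (b ≫ a.left) (Over.w (b' ≫ a)) =
          (i.univD.cls.bc a.left (Over.w a)).bc b (Over.w b') := (RQ.bc_bc _ _ _ _ _).symm
      refine h1.trans ?_
      rw [ha]
      refine (RQ.bc_bc _ _ _ _ _).trans ?_
      refine Eq.trans ?_ (bc_clsMap hG i.univD)
      congr 1)
    exact congrArg CommaMorphism.left h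
  · rw [← cancel_mono V.ι, Category.assoc, hb, Category.id_comp]
    refine hom_ext_of_cls hG (g := V.ι ≫ π) (by rw [Category.assoc, chartMap_comp]; exact Over.w a) rfl ?_
    refine Eq.trans ((RQ.bc_bc _ (chartMap hG i) (chartMap_comp hG i) a.left (Over.w a)).symm.trans ?_) ha
    rw [show RQ.bc (QData.cls (⟨Q, q, hG.rank, hG.epi⟩ : QData E r π)) (chartMap hG i) (chartMap_comp hG i) =
      i.univD.cls from bc_clsMap hG i.univD]

theorem isOpenImmersion_chartMap : IsOpenImmersion (chartMap hG i) := by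
  obtain ⟨e, he⟩ := exists_iso_chartOpen hG i
  rw [← he]
  infer_instance

theorem range_chartMap : Set.range (chartMap hG i) = chartOpen hG i := by
  obtain ⟨e, he⟩ := exists_iso_chartOpen hG i
  rw [← he]
  refine Set.Subset.antisymm ?_ ?_
  · rintro _ ⟨z, rfl⟩
    exact (e.hom z).2
  · intro x hx
    exact ⟨e.inv ⟨x, hx⟩, by rw [← Scheme.Hom.comp_apply, Iso.inv_hom_id_assoc]; rfl⟩

theorem mem_chartOpen_iff (x : G) : x ∈ chartOpen hG i ↔ ∃ hx : π x ∈ i.U,
    SpanAt (fun k => vecS (⟨Q, q, hG.rank, hG.epi⟩ : QData E r π) (W := π ⁻¹ᵁ i.U) le_rfl (i.σ (i.I k))) x hx := by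
  let D : QData E r π := ⟨Q, q, hG.rank, hG.epi⟩
  let T : Over X := Over.mk π
  constructor
  · intro hx
    obtain ⟨z, rfl⟩ : x ∈ Set.range (chartMap hG i) := by rw [range_chartMap]; exact hx
    let S : Over X := i.Z
    have e' := i.le_preimage
    have hπ : π (chartMap hG i z) ∈ i.U := by
      rw [← Scheme.Hom.comp_apply, chartMap_comp]; exact e' trivial
    refine ⟨hπ, ?_⟩
    haveI := (D.bc (chartMap hG i) (chartMap_comp hG i)).epi
    haveI := i.univD.epi
    have h0 := bc_clsMap hG i.univD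
    rw [QData.bc_cls] at h0
    obtain ⟨ε, hε⟩ := exists_iso_of_kerS_eq i.univD.s (D.bc (chartMap hG i) (chartMap_comp hG i)).s
      (congrArg Subtype.val h0).symm
    have h1 : SpanAt (fun k => vecS i.univD e' (i.σ (i.I k))) z trivial := by
      simp only [Idx.vecS_univ_self]
      exact ((isFrame_iff_spanAt i.univD.rank _).1 i.isFrame_univF) z trivial
    have h3 := h1.map ε.hom
    simp only [vecS_iso ε hε] at h3
    have hW : ⊤ ≤ chartMap hG i ⁻¹ᵁ (π ⁻¹ᵁ i.U) := fun y _ => by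
      show π (chartMap hG i y) ∈ i.U
      rw [← Scheme.Hom.comp_apply, chartMap_comp]; exact e' trivial
    simp only [vecS_bc D (chartMap hG i) (chartMap_comp hG i) le_rfl e' hW] at h3
    exact (spanAt_pullMap_iff (chartMap hG i) D.rank hW trivial).1 h3
  · rintro hx
    let V := spanLocus D.rank fun k => vecS D (W := π ⁻¹ᵁ i.U) le_rfl (i.σ (i.I k))
    let S : Over X := Over.mk (V.ι ≫ π)
    let t : S ⟶ T := Over.homMk V.ι rfl
    have hV : ∀ y : S.left, ∃ hy : V.ι y ∈ π ⁻¹ᵁ i.U,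
        SpanAt (fun k => vecS D (W := π ⁻¹ᵁ i.U) le_rfl (i.σ (i.I k))) (V.ι y) hy := fun y => y.2
    have e : ⊤ ≤ S.hom ⁻¹ᵁ i.U := fun y _ => (hV y).1
    have hW : ⊤ ≤ V.ι ⁻¹ᵁ (π ⁻¹ᵁ i.U) := fun y _ => (hV y).1
    obtain ⟨a, ha⟩ := i.exists_lift (D.bc V.ι rfl) e fun y => by
      simp only [vecS_bc D V.ι rfl le_rfl e hW]
      exact (spanAt_pullMap_iff V.ι D.rank hW trivial).2 (hV y).2
    exact (chartOpen_spec hG i S t).1 ⟨a, ha.trans (QData.bc_cls _ _ _).symm⟩ ⟨⟨x, hx⟩, rfl⟩

include hG in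
theorem exists_mem_chartOpen (hE : CohB1.IsFT E) (x : G) : ∃ i : Idx E r, x ∈ chartOpen hG i := by
  obtain ⟨i, T', t, a, -, hx, ha⟩ :=
    exists_chart_near hE (Over.mk π) (QData.cls (⟨Q, q, hG.rank, hG.epi⟩ : QData E r π)) x
  exact ⟨i, (chartOpen_spec hG i T' t).1 ⟨a, ha⟩ hx⟩

/-! ### Separatedness -/

omit i in
include hG in
/-- A Grassmannian of a quasi-coherent module is separated. -/
theorem isSeparated_grass : IsSeparated π := by
  let D : QData E r π := ⟨Q, q, hG.rank, hG.epi⟩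
  let P := pullback π π
  let g₀ : P ⟶ X := pullback.fst π π ≫ π
  let D₁ : QData E r g₀ := D.bc (pullback.fst π π) rfl
  let D₂ : QData E r g₀ := D.bc (pullback.snd π π) pullback.condition.symm
  haveI hD₁ := D₁.epi
  let κ := kernel.ι D₁.s ≫ D₂.s
  have hqL : ∀ D' : QData E r g₀, Coh.IsQCoh D'.L := fun D' =>
    (isQCoh_and_isFP_of_isFinLocFree D'.L fun z => ⟨(D'.rank z).choose, r, (D'.rank z).choose_spec⟩).1
  haveI := hqL D₁
  have hK : Coh.IsQCoh (kernel D₁.s) :=
    (QCohLib.isQCoh_image D₁.s (PullbackMod.isQCoh_pullback g₀ E) inferInstance).1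
  obtain ⟨Z, j, hj, hZ⟩ := GrassRepLib.exists_vanishing hK D₂.rank κ
  -- the two quotients agree exactly on `Z`
  have hiff : ∀ (T : Scheme.{u}) (h : T ⟶ P),
      (∃ a : T ⟶ Z, a ≫ j = h) ↔ h ≫ pullback.fst π π = h ≫ pullback.snd π π := by
    intro T h
    rw [hZ]
    have hgb : (h ≫ pullback.snd π π) ≫ π = h ≫ g₀ := by rw [Category.assoc, ← pullback.condition]
    haveI : (Scheme.Modules.pullback h).IsLeftAdjoint :=
      (Scheme.Modules.pullbackPushforwardAdjunction _).isLeftAdjoint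
    haveI := (D₁.bc h rfl).epi
    haveI := (D₂.bc h rfl).epi
    have h1 : D₁.cls.bc h (rfl : h ≫ g₀ = _) =
        D.cls.bc (h ≫ pullback.fst π π) (Category.assoc _ _ _) := by
      rw [← QData.bc_cls, RQ.bc_bc]
    have h2 : D₂.cls.bc h (rfl : h ≫ g₀ = _) = D.cls.bc (h ≫ pullback.snd π π) hgb := by
      rw [← QData.bc_cls, RQ.bc_bc]
    constructor
    · intro h0
      refine hom_ext_of_cls hG (g := h ≫ g₀) (Category.assoc _ _ _) hgb ?_
      rw [← h1, ← h2, QData.bc_cls, QData.bc_cls]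
      refine Subtype.ext ?_
      -- the map of the second quotient factors through the first
      have hl := CokernelCofork.mapIsColimit _
        (Abelian.epiIsCokernelOfKernel (KernelFork.ofι (kernel.ι D₁.s) (kernel.condition _)) (kernelIsKernel D₁.s))
        (Scheme.Modules.pullback h)
      obtain ⟨w, hw⟩ := CokernelCofork.IsColimit.desc' hl ((Scheme.Modules.pullback h).map D₂.s) (by
        rw [← Functor.map_comp]; exact h0)
      change (Scheme.Modules.pullback h).map D₁.s ≫ w = _ at hw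
      have hw' : (D₁.bc h rfl).s ≫ w = (D₂.bc h rfl).s := by
        show qb D₁.s _ ≫ w = qb D₂.s _
        simp only [qb, quotBC, Category.assoc, hw]
      haveI : Epi w := by
        haveI : Epi ((D₁.bc h rfl).s ≫ w) := by rw [hw']; infer_instance
        exact epi_of_epi (D₁.bc h rfl).s w
      haveI : IsIso w := GrassRepLib.isIso_of_epi_rank w (D₁.bc h rfl).rank (D₂.bc h rfl).rank
      show kerS (D₁.bc h rfl).s = kerS (D₂.bc h rfl).s
      rw [← hw']
      exact (kerS_comp_iso _ (asIso w)).symm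
    · intro hh
      have h3 : D₁.cls.bc h (rfl : h ≫ g₀ = _) = D₂.cls.bc h rfl := by
        rw [h1, h2]; congr 1
      rw [QData.bc_cls, QData.bc_cls] at h3
      obtain ⟨ε, hε⟩ := exists_iso_of_kerS_eq (D₁.bc h rfl).s (D₂.bc h rfl).s (congrArg Subtype.val h3)
      change qb D₁.s _ ≫ ε.hom = qb D₂.s _ at hε
      simp only [qb, quotBC, Category.assoc, cancel_epi] at hε
      show (Scheme.Modules.pullback h).map (kernel.ι D₁.s ≫ D₂.s) = 0
      rw [Functor.map_comp, ← hε, ← Category.assoc, ← Functor.map_comp, kernel.condition,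
        Functor.map_zero, zero_comp]
  haveI := hj
  have hΔ : pullback.diagonal π ≫ pullback.fst π π = pullback.diagonal π ≫ pullback.snd π π := by simp
  obtain ⟨a, ha⟩ := (hiff G (pullback.diagonal π)).2 hΔ
  have hj' := (hiff Z j).1 ⟨𝟙 _, Category.id_comp _⟩
  have hb : (j ≫ pullback.fst π π) ≫ pullback.diagonal π = j := by
    refine pullback.hom_ext ?_ ?_
    · simp
    · simp [← hj']
  haveI : IsIso a := ⟨j ≫ pullback.fst π π, by rw [reassoc_of% ha]; simp, by
    rw [← cancel_mono j, Category.assoc, ha, hb, Category.id_comp]⟩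
  refine ⟨?_⟩
  rw [← ha]
  infer_instance

end Groth.Agent.GrassShLib
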