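import Groth.Agent.GrassShLib.Props
import Groth.Agent.S10852

/-!
# Grassmannians of finite locally free modules: smoothness, surjectivity, irreducibility
-/

set_option autoImplicit false
set_option backward.isDefEq.respectTransparency false
set_option linter.style.haveILetI false

universe u

open CategoryTheory CategoryTheory.Limits AlgebraicGeometry TopologicalSpace Opposite Grass
open Groth.Agent.PullbackMod Groth.Agent.FlagLib Groth.Agent.DegDevLib Groth.Agent.GrassRepLib

noncomputable section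

namespace Groth.Agent.GrassShLib

variable {X G : Scheme.{u}} {E : X.Modules} {r N : ℕ}

theorem span_of_isFrame {U : X.Opens} {n : ℕ} {σ : Fin n → Γ(E, U)} (h : IsFrame U σ) :
    Submodule.span Γ(X, U) (Set.range σ) = ⊤ := by
  rw [← Fintype.range_linearCombination, LinearMap.range_eq_top]
  exact h.bijective.2

theorem exists_frame_affine (hE : FlatMod.IsFinLocFreeOfRank N E) (x : X) :
    ∃ (U : X.Opens) (σ : Fin N → Γ(E, U)), IsAffineOpen U ∧ x ∈ U ∧ IsFrame U σ := by
  obtain ⟨_, ⟨A : X.Opens, hA : IsAffineOpen A, rfl⟩, hxA, -⟩ :=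
    X.isBasis_affineOpens.exists_subset_of_mem_open (Set.mem_univ x) isOpen_univ
  obtain ⟨U, f, hxU, -, hf⟩ := exists_frame hE (Set.finite_singleton x) hA (Set.singleton_subset_iff.2 hxA)
  obtain ⟨_, ⟨B : X.Opens, hB : IsAffineOpen B, rfl⟩, hxB, hBU⟩ :=
    X.isBasis_affineOpens.exists_subset_of_mem_open (hxU rfl) U.2
  exact ⟨B, _, hB, hxB, hf.res hBU⟩

/-- The chart index of a frame. -/
@[reducible] def frameIdx {U : X.Opens} (hU : IsAffineOpen U) {n : ℕ} {σ : Fin n → Γ(E, U)} (h : IsFrame U σ)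
    (I : Fin r ↪ Fin n) : Idx E r := ⟨U, hU, n, σ, span_of_isFrame h, I⟩

theorem J_frameIdx {U : X.Opens} (hU : IsAffineOpen U) {n : ℕ} {σ : Fin n → Γ(E, U)} (h : IsFrame U σ)
    (I : Fin r ↪ Fin n) : (frameIdx hU h I).J = ⊥ := by
  refine Ideal.span_eq_bot.2 ?_
  rintro _ ⟨⟨⟨ρ, hρ⟩, a⟩, rfl⟩
  have hρ0 : ρ = 0 := h.bijective.1 (by simpa [Fintype.linearCombination_apply] using hρ)
  subst hρ0
  simp

theorem exists_emb_spanAt {L : G.Modules} (hL : FlatMod.IsFinLocFreeOfRank r L) {W : G.Opens} {n : ℕ}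
    {v : Fin n → Γ(L, W)} {p : G} {hp : p ∈ W} (h : SpanAt v p hp) :
    ∃ I : Fin r ↪ Fin n, SpanAt (fun k => v (I k)) p hp := by
  classical
  have hL' : FlatMod.IsFinLocFree L := fun z => ⟨(hL z).choose, r, (hL z).choose_spec⟩
  obtain ⟨hq, hfp⟩ := isQCoh_and_isFP_of_isFinLocFree L hL'
  haveI := hq
  obtain ⟨a₀⟩ := (isFinLocFreeOfRank_iff_freeAt L hfp r).1 hL p
  obtain ⟨γ, hγs, hγ⟩ := KRRAmple.exists_tuple_spanning a₀ _ h
  choose I hI using hγs
  have hI' : SpanAt (fun k => v (I k)) p hp := by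
    rw [SpanAt, ← hγ]
    congr 2
    exact funext hI
  have hinj : Function.Injective I := fun k l hkl => by
    have hb := (bijective_of_spanAt hL hI').1
    have h1 := @hb (Pi.single k 1) (Pi.single l 1) (by
      simp [Fintype.linearCombination_apply_single, hkl])
    by_contra hne
    have := congrFun h1 k
    rw [Pi.single_eq_same, Pi.single_eq_of_ne hne] at this
    exact one_ne_zero this
  exact ⟨⟨I, hinj⟩, hI'⟩

variable {π : G ⟶ X} {Q : G.Modules} {q : (Scheme.Modules.pullback π).obj E ⟶ Q}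
  (hG : IsGrass π E r Q q) [Coh.IsQCoh E]

theorem exists_frameIdx_mem {U : X.Opens} (hU : IsAffineOpen U) {n : ℕ} {σ : Fin n → Γ(E, U)}
    (h : IsFrame U σ) {x : G} (hx : π x ∈ U) :
    ∃ I : Fin r ↪ Fin n, x ∈ chartOpen hG (frameIdx hU h I) := by
  let D : QData E r π := ⟨Q, q, hG.rank, hG.epi⟩
  have hspan := spanAt_vecS D hU (span_of_isFrame h) (W := π ⁻¹ᵁ U) le_rfl (hx : x ∈ π ⁻¹ᵁ U)
  obtain ⟨I, hI⟩ := exists_emb_spanAt D.rank hspan
  exact ⟨I, (mem_chartOpen_iff hG _ x).2 ⟨hx, hI⟩⟩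

/-! ### Smoothness -/

theorem smooth_chart {U : X.Opens} (hU : IsAffineOpen U) {n : ℕ} {σ : Fin n → Γ(E, U)} (h : IsFrame U σ)
    (I : Fin r ↪ Fin n) : SmoothOfRelativeDimension (r * (n - r)) (frameIdx hU h I).Z.hom := by
  let i := frameIdx hU h I
  let e : i.A ≃ₐ[Γ(X, U)] i.P :=
    (Ideal.quotientEquivAlgOfEq Γ(X, U) (J_frameIdx hU h I)).trans (AlgEquiv.quotientBot Γ(X, U) i.P)
  haveI h1 := S10852.smooth_spec_mvPolynomial Γ(X, U) (Fin r × outside I)
  rw [S10852.card_chart I] at h1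
  let φ : CommRingCat.of i.A ≅ CommRingCat.of i.P := e.toRingEquiv.toCommRingCatIso
  have hw : i.Z.hom = (Spec.map φ.inv ≫ Spec.map (CommRingCat.ofHom (algebraMap Γ(X, U) i.P))) ≫ hU.fromSpec := by
    show Spec.map _ ≫ hU.fromSpec = _
    rw [← Spec.map_comp]
    congr 2
  show SmoothOfRelativeDimension _ i.Z.hom
  rw [hw]
  have h2 : SmoothOfRelativeDimension (r * (n - r))
      (Spec.map φ.inv ≫ Spec.map (CommRingCat.ofHom (algebraMap Γ(X, U) i.P))) :=
    (MorphismProperty.cancel_left_of_respectsIso (@SmoothOfRelativeDimension (r * (n - r))) _ _).2 h1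
  have h3 : SmoothOfRelativeDimension (r * (n - r) + 0)
      ((Spec.map φ.inv ≫ Spec.map (CommRingCat.ofHom (algebraMap Γ(X, U) i.P))) ≫ hU.fromSpec) := inferInstance
  simpa using h3

include hG in
/-- The Grassmannian of a module locally free of rank `N` is smooth of relative dimension `r (N - r)`. -/
theorem smooth_grass (hE : FlatMod.IsFinLocFreeOfRank N E) : SmoothOfRelativeDimension (r * (N - r)) π := by
  choose U σ hU hxU hσ using exists_frame_affine hE
  choose I hI using fun x : G => exists_frameIdx_mem hG (hU (π x)) (hσ (π x)) (hxU (π x))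
  let i : G → Idx E r := fun x => frameIdx (hU (π x)) (hσ (π x)) (I x)
  haveI := fun x => isOpenImmersion_chartMap hG (i x)
  let 𝒰 : Scheme.OpenCover.{u} G :=
    Scheme.Cover.mkOfCovers G (fun x => (i x).Z.left) (fun x => chartMap hG (i x))
      (fun x => ⟨x, by
        have : x ∈ Set.range (chartMap hG (i x)) := by rw [range_chartMap]; exact hI x
        exact this⟩) (fun x => inferInstance)
  rw [IsZariskiLocalAtSource.iff_of_openCover (P := @SmoothOfRelativeDimension (r * (N - r))) 𝒰]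
  intro x
  show SmoothOfRelativeDimension _ (chartMap hG (i x) ≫ π)
  rw [chartMap_comp]
  exact smooth_chart _ _ _

/-! ### Points of charts -/

theorem exists_chart_point {U : X.Opens} (hU : IsAffineOpen U) {n : ℕ} {σ : Fin n → Γ(E, U)} (h : IsFrame U σ)
    (I : Fin r ↪ Fin n) {c : Fin n → Fin r → Γ(X, U)} (hc : Normal I c) :
    ∃ s : Over.mk hU.fromSpec ⟶ (frameIdx hU h I).Z, ∀ j k,
      s.left.appTop ((frameIdx hU h I).coord j k) = (Scheme.ΓSpecIso Γ(X, U)).inv (c j k) := by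
  let i := frameIdx hU h I
  let φP : i.P →+* Γ(X, U) := MvPolynomial.eval₂Hom (RingHom.id _) fun p => c p.2.1 p.1
  have hJ : ∀ p ∈ i.J, φP p = 0 := fun p hp => by
    rw [show i.J = ⊥ from J_frameIdx hU h I, Ideal.mem_bot] at hp
    rw [hp, map_zero]
  let φ : i.A →+* Γ(X, U) := Ideal.Quotient.lift i.J φP hJ
  refine ⟨Over.homMk (Spec.map (CommRingCat.ofHom φ)) ?_, fun j k => ?_⟩
  · show Spec.map _ ≫ Spec.map _ ≫ hU.fromSpec = hU.fromSpec
    rw [← Spec.map_comp_assoc]
    convert Category.id_comp hU.fromSpec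
    rw [← Spec.map_id]
    congr 1
    refine CommRingCat.hom_ext (RingHom.ext fun x => ?_)
    show φ (Ideal.Quotient.mk i.J (MvPolynomial.C x)) = x
    rw [Ideal.Quotient.lift_mk]
    exact MvPolynomial.eval₂Hom_C _ _ _
  · show (Spec.map (CommRingCat.ofHom φ)).appTop _ = _
    rw [Idx.coord, ← ConcreteCategory.comp_apply, ← Scheme.ΓSpecIso_inv_naturality]
    refine congrArg (Scheme.ΓSpecIso Γ(X, U)).inv ?_
    show φ (Ideal.Quotient.mk i.J _) = _
    rw [Ideal.Quotient.lift_mk, colOf_ringHom]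
    simp only [φP, MvPolynomial.eval₂Hom_X']
    exact congrFun (congrFun (colOf_of_normal I hc) j) k

include hG in
theorem surjective_grass (hE : FlatMod.IsFinLocFreeOfRank N E) (hr : r ≤ N) : Surjective π := by
  refine ⟨fun x => ?_⟩
  obtain ⟨U, σ, hU, hxU, hσ⟩ := exists_frame_affine hE x
  let I : Fin r ↪ Fin N := Fin.castLEEmb hr
  obtain ⟨s, -⟩ := exists_chart_point hU hσ I (normal_colOf I (fun _ => (0 : Γ(X, U))))
  obtain ⟨z, rfl⟩ : x ∈ Set.range hU.fromSpec := by rw [hU.range_fromSpec]; exact hxU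
  refine ⟨chartMap hG (frameIdx hU hσ I) (s.left z), ?_⟩
  rw [← Scheme.Hom.comp_apply, chartMap_comp, ← Scheme.Hom.comp_apply, Over.w s]
  rfl

/-! ### Irreducibility -/

theorem irreducible_chart [IrreducibleSpace X] {U : X.Opens} (hU : IsAffineOpen U) (hne : (U : Set X).Nonempty)
    {n : ℕ} {σ : Fin n → Γ(E, U)} (h : IsFrame U σ) (I : Fin r ↪ Fin n) :
    IrreducibleSpace (frameIdx hU h I).Z.left := by
  let i := frameIdx hU h I
  haveI : IrreducibleSpace (U : Scheme.{u}) :=
    Subtype.irreducibleSpace ⟨hne, (PreirreducibleSpace.isPreirreducible_univ (X := X)).open_subset U.2 (Set.subset_univ _)⟩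
  haveI : IrreducibleSpace (Spec Γ(X, U)) := hU.isoSpec.hom.homeomorph.surjective.irreducibleSpace
    hU.isoSpec.hom.homeomorph.continuous
  have hp : (nilradical Γ(X, U)).IsPrime := PrimeSpectrum.irreducibleSpace_iff_isPrime_nilradical.1
    (inferInstanceAs (IrreducibleSpace (Spec Γ(X, U))))
  let m := MvPolynomial.map (σ := Fin r × outside I) (Ideal.Quotient.mk (nilradical Γ(X, U)))
  have hprime : (RingHom.ker m).IsPrime := RingHom.ker_isPrime m
  have hP : (nilradical i.P).IsPrime := by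
    have he : nilradical i.P = RingHom.ker m := by
      refine le_antisymm (nilradical_le_prime _) ?_
      show RingHom.ker (MvPolynomial.map _) ≤ _
      rw [MvPolynomial.ker_map, Ideal.mk_ker, Ideal.map_le_iff_le_comap]
      exact fun x hx => (mem_nilradical.1 hx).map MvPolynomial.C
    rw [he]; exact hprime
  haveI : IrreducibleSpace (Spec (CommRingCat.of i.P)) := PrimeSpectrum.irreducibleSpace_iff_isPrime_nilradical.2 hP
  let e : i.A ≃ₐ[Γ(X, U)] i.P :=
    (Ideal.quotientEquivAlgOfEq Γ(X, U) (J_frameIdx hU h I)).trans (AlgEquiv.quotientBot Γ(X, U) i.P)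
  let φ := Scheme.Spec.mapIso e.toRingEquiv.toCommRingCatIso.op
  haveI : IrreducibleSpace (Scheme.Spec.obj (op (CommRingCat.of i.P))) :=
    inferInstanceAs (IrreducibleSpace (Spec (CommRingCat.of i.P)))
  exact φ.hom.homeomorph.surjective.irreducibleSpace φ.hom.homeomorph.continuous

open Classical in
/-- Two charts over one frame meet over every nonempty open. -/
theorem charts_meet {U : X.Opens} (hU : IsAffineOpen U) (hne : (U : Set X).Nonempty) {n : ℕ}
    {σ : Fin n → Γ(E, U)} (h : IsFrame U σ) (I J : Fin r ↪ Fin n) :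
    ((chartOpen hG (frameIdx hU h I) : Set G) ∩ chartOpen hG (frameIdx hU h J)).Nonempty := by
  let p : Fin r → Prop := fun k => I k ∈ Set.range J
  let p' : Fin r → Prop := fun l => J l ∈ Set.range I
  let e₀ : {k // p k} ≃ {l // p' l} :=
    { toFun := fun k => ⟨k.2.choose, k.1, k.2.choose_spec.symm⟩
      invFun := fun l => ⟨l.2.choose, l.1, l.2.choose_spec.symm⟩
      left_inv := fun k => Subtype.ext (I.injective (by
        have h₁ : ∃ y, I y = J k.2.choose := ⟨k.1, k.2.choose_spec.symm⟩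
        exact h₁.choose_spec.trans k.2.choose_spec))
      right_inv := fun l => Subtype.ext (J.injective (by
        have h₁ : ∃ y, J y = I l.2.choose := ⟨l.1, l.2.choose_spec.symm⟩
        exact h₁.choose_spec.trans l.2.choose_spec)) }
  let τ : Equiv.Perm (Fin r) := e₀.extendSubtype
  have hτ : ∀ k l, I k = J l → τ k = l := fun k l hkl => by
    have hk : p k := ⟨l, hkl.symm⟩
    rw [show τ k = _ from Equiv.extendSubtype_apply_of_mem _ k hk]
    exact J.injective (hk.choose_spec.trans hkl)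
  let c : Fin n → Fin r → Γ(X, U) := fun j l =>
    if hj : ∃ k, I k = j then (if τ hj.choose = l then 1 else 0) else (if J l = j then 1 else 0)
  have hcI : ∀ k l, c (I k) l = if τ k = l then 1 else 0 := fun k l => by
    have hk : ∃ k', I k' = I k := ⟨k, rfl⟩
    simp only [c, dif_pos hk, I.injective hk.choose_spec]
  have hcJ : Normal J c := fun a => funext fun l => by
    by_cases hj : ∃ k, I k = J a
    · obtain ⟨k, hk⟩ := hj
      rw [← hk, hcI, hτ k a hk, Pi.single_apply]
      simp only [eq_comm]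
    · simp only [c, dif_neg hj, Pi.single_apply, J.injective.eq_iff]
  obtain ⟨s, hs⟩ := exists_chart_point hU h J hcJ
  let iJ := frameIdx hU h J
  let iI := frameIdx hU h I
  let D := iJ.univD.bc s.left (Over.w s)
  let S : Over X := Over.mk hU.fromSpec
  have hf := (isFrame_iff_spanAt D.rank _).1 (iJ.isFrame_frameBC s)
  have hspan : ∀ x : S.left, SpanAt (fun k => vecS D (iJ.le_preimage_comp s) (σ (I k))) x trivial := fun x => by
    have hv : (fun k => vecS D (iJ.le_preimage_comp s) (σ (I k))) = fun k => iJ.frameBC s (τ k) := funext fun k => by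
      refine (iJ.vecS_bc s (I k)).trans ?_
      rw [Finset.sum_eq_single (τ k)]
      · rw [hs, hcI, if_pos rfl, map_one, one_smul]
      · intro b _ hb
        rw [hs, hcI, if_neg (Ne.symm hb), map_zero, zero_smul]
      · exact fun h' => absurd (Finset.mem_univ _) h'
    rw [hv, SpanAt, ← hf x trivial]
    congr 1
    exact Function.Surjective.range_comp τ.surjective (fun l => ((iJ.univD.bc s.left (Over.w s)).L).presheaf.germ ⊤ x trivial (iJ.frameBC s l))
  obtain ⟨a, ha⟩ := iI.exists_lift (S := S) D (iJ.le_preimage_comp s) hspan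
  let t : S ⟶ Over.mk π := Over.homMk (s.left ≫ chartMap hG iJ) (by
    show (s.left ≫ chartMap hG iJ) ≫ π = _
    rw [Category.assoc, chartMap_comp]; exact Over.w s)
  have hD : D.cls = RQ.bc (QData.cls (⟨Q, q, hG.rank, hG.epi⟩ : QData E r π)) t.left (Over.w t) := by
    refine Eq.trans ?_ (RQ.bc_bc _ (chartMap hG iJ) (chartMap_comp hG iJ) s.left (Over.w s))
    rw [show RQ.bc (QData.cls (⟨Q, q, hG.rank, hG.epi⟩ : QData E r π)) (chartMap hG iJ) (chartMap_comp hG iJ) =
      iJ.univD.cls from bc_clsMap hG iJ.univD, QData.bc_cls]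
  have hI := (chartOpen_spec hG iI S t).1 ⟨a, ha.trans hD⟩
  have hJ := (chartOpen_spec hG iJ S t).1 ⟨s, (QData.bc_cls _ _ _).trans hD⟩
  obtain ⟨x, hx⟩ := hne
  obtain ⟨z, hz⟩ : x ∈ Set.range hU.fromSpec := by rw [hU.range_fromSpec]; exact hx
  exact ⟨t.left z, hI ⟨z, rfl⟩, hJ ⟨z, rfl⟩⟩

include hG in
/-- The Grassmannian of a locally free module over an irreducible base is irreducible. -/
theorem irreducible_grass [IrreducibleSpace X] (hE : FlatMod.IsFinLocFreeOfRank N E) (hr : r ≤ N) :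
    IrreducibleSpace G := by
  haveI := surjective_grass hG hE hr
  haveI : Nonempty G := ⟨(π.surjective (Classical.arbitrary X)).choose⟩
  choose U σ hU hxU hσ using exists_frame_affine hE
  have hne : ∀ x, (U x : Set X).Nonempty := fun x => ⟨x, hxU x⟩
  let O : X → (Fin r ↪ Fin N) → Set G := fun x I => chartOpen hG (frameIdx (hU x) (hσ x) I)
  have hirr : ∀ x I, IsPreirreducible (O x I) := fun x I => by
    haveI := irreducible_chart (r := r) (hU x) (hne x) (hσ x) I
    show IsPreirreducible ((chartOpen hG (frameIdx (hU x) (hσ x) I) : Set G))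
    rw [← range_chartMap, ← Set.image_univ]
    exact PreirreducibleSpace.isPreirreducible_univ.image _ (Scheme.Hom.continuous _).continuousOn
  have hopen : ∀ x I, IsOpen (O x I) := fun x I => (chartOpen hG _).2
  -- meeting is transitive among irreducible opens
  have htrans : ∀ {x I y J} {W : Set G}, IsOpen W → (W ∩ O x I).Nonempty → (O x I ∩ O y J).Nonempty →
      (W ∩ O y J).Nonempty := fun {x I y J W} hW h1 h2 => by
    obtain ⟨z, -, hz1, hz2⟩ := hirr x I W (O y J) hW (hopen y J) (h1.mono fun z hz => ⟨hz.2, hz.1⟩) h2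
    exact ⟨z, hz1, hz2⟩
  haveI : PreirreducibleSpace G := by
    constructor
    rintro W₁ W₂ hW₁ hW₂ ⟨g₁, -, hg₁⟩ ⟨g₂, -, hg₂⟩
    obtain ⟨I, hI⟩ := exists_frameIdx_mem hG (hU (π g₁)) (hσ (π g₁)) (hxU (π g₁))
    obtain ⟨J, hJ⟩ := exists_frameIdx_mem hG (hU (π g₂)) (hσ (π g₂)) (hxU (π g₂))
    obtain ⟨y, -, hy₁, hy₂⟩ := PreirreducibleSpace.isPreirreducible_univ (X := X) _ _ (U (π g₁)).2 (U (π g₂)).2
      ⟨π g₁, trivial, hxU _⟩ ⟨π g₂, trivial, hxU _⟩
    obtain ⟨g, hg⟩ := π.surjective y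
    obtain ⟨K, hK⟩ := exists_frameIdx_mem hG (hU (π g₁)) (hσ (π g₁)) (show π g ∈ U (π g₁) by rw [hg]; exact hy₁)
    obtain ⟨K', hK'⟩ := exists_frameIdx_mem hG (hU (π g₂)) (hσ (π g₂)) (show π g ∈ U (π g₂) by rw [hg]; exact hy₂)
    have h1 : (W₁ ∩ O (π g₁) K).Nonempty :=
      htrans hW₁ ⟨g₁, hg₁, hI⟩ (charts_meet hG (hU _) (hne _) (hσ _) I K)
    have h2 : (W₁ ∩ O (π g₂) K').Nonempty := htrans hW₁ h1 ⟨g, hK, hK'⟩
    have h3 : (W₁ ∩ O (π g₂) J).Nonempty := htrans hW₁ h2 (charts_meet hG (hU _) (hne _) (hσ _) K' J)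
    obtain ⟨z, -, hz1, hz2⟩ := hirr (π g₂) J W₁ W₂ hW₁ hW₂ (h3.mono fun z hz => ⟨hz.2, hz.1⟩) ⟨g₂, hJ, hg₂⟩
    exact ⟨z, trivial, hz1, hz2⟩
  exact { toNonempty := inferInstance }

end Groth.Agent.GrassShLib
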