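import Groth.Agent.GrassShLib.Proper
import Groth.Agent.GrassShLib.FreeChart

/-!
# Flag schemes as towers of Grassmannians
-/

set_option autoImplicit false
set_option backward.isDefEq.respectTransparency false
set_option linter.style.haveILetI false

universe u

open CategoryTheory CategoryTheory.Limits AlgebraicGeometry TopologicalSpace Opposite Grass
open Groth.Agent.PullbackMod Groth.Agent.FlagLib

noncomputable section

namespace Groth.Agent.GrassShLib

variable {X T T' : Scheme.{u}} {E : X.Modules} {a b c : ℕ}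

/-- A quotient factors through another. -/
def Fac {g : T ⟶ X} (A : QData E a g) (B : QData E b g) : Prop := ∃ t : A.L ⟶ B.L, A.s ≫ t = B.s

theorem Fac.refl {g : T ⟶ X} (A : QData E a g) : Fac A A := ⟨𝟙 _, Category.comp_id _⟩

theorem Fac.trans {g : T ⟶ X} {A : QData E a g} {B : QData E b g} {C : QData E c g} (h : Fac A B) (h' : Fac B C) :
    Fac A C := by
  obtain ⟨t, ht⟩ := h
  obtain ⟨t', ht'⟩ := h'
  exact ⟨t ≫ t', by rw [reassoc_of% ht, ht']⟩

theorem Fac.of_cls {g : T ⟶ X} {A B : QData E a g} (h : A.cls = B.cls) : Fac A B := by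
  haveI := A.epi
  haveI := B.epi
  obtain ⟨e, he⟩ := exists_iso_of_kerS_eq A.s B.s (congrArg Subtype.val h)
  exact ⟨e.hom, he⟩

theorem Fac.bc {g : T ⟶ X} {g' : T' ⟶ X} {A : QData E a g} {B : QData E b g} (h : Fac A B) (φ : T' ⟶ T)
    (hφ : φ ≫ g = g') : Fac (A.bc φ hφ) (B.bc φ hφ) := by
  obtain ⟨t, ht⟩ := h
  exact ⟨(Scheme.Modules.pullback φ).map t, (qb_comp A.s hφ t).trans (by rw [ht]; rfl)⟩

theorem cls_eq_of_iso {g : T ⟶ X} {A B : QData E a g} (e : A.L ≅ B.L) (he : A.s ≫ e.hom = B.s) : A.cls = B.cls :=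
  Subtype.ext (show kerS A.s = kerS B.s by rw [← he]; exact (kerS_comp_iso _ e).symm)

theorem RQ.bc_congr {g : T ⟶ X} {g' : T' ⟶ X} (N : RQ E a g) {φ φ' : T' ⟶ T} (h : φ = φ') (hφ : φ ≫ g = g')
    (hφ' : φ' ≫ g = g') : N.bc φ hφ = N.bc φ' hφ' := by
  subst h; rfl

/-- A quotient of a quotient. -/
def QData.comp {g : T ⟶ X} (A : QData E a g) {φ : T' ⟶ T} (B : QData A.L b φ) {g' : T' ⟶ X} (hφ : φ ≫ g = g') :
    QData E b g' where
  L := B.L
  s := qb A.s hφ ≫ B.s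
  rank := B.rank
  epi := haveI := A.epi; haveI := epi_qb A.s hφ; haveI := B.epi; epi_comp _ _

theorem QData.comp_cls_iff {g : T ⟶ X} (A : QData E a g) {φ : T' ⟶ T} (B B' : QData A.L b φ) {g' : T' ⟶ X}
    (hφ : φ ≫ g = g') : (A.comp B hφ).cls = (A.comp B' hφ).cls ↔ B.cls = B'.cls := by
  haveI := A.epi
  haveI := epi_qb A.s hφ
  constructor
  · intro h
    haveI := (A.comp B hφ).epi
    haveI := (A.comp B' hφ).epi
    obtain ⟨e, he⟩ := exists_iso_of_kerS_eq (A.comp B hφ).s (A.comp B' hφ).s (congrArg Subtype.val h)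
    exact cls_eq_of_iso e ((cancel_epi (qb A.s hφ)).1 ((Category.assoc _ _ _).symm.trans he))
  · intro h
    haveI := B.epi
    haveI := B'.epi
    obtain ⟨e, he⟩ := exists_iso_of_kerS_eq B.s B'.s (congrArg Subtype.val h)
    exact cls_eq_of_iso (A := A.comp B hφ) (B := A.comp B' hφ) e
      ((Category.assoc _ _ _).trans (congrArg (qb A.s hφ ≫ ·) he))

theorem QData.comp_bc {T'' : Scheme.{u}} {g : T ⟶ X} (A : QData E a g) {φ : T' ⟶ T} (B : QData A.L b φ)
    {g' : T' ⟶ X} (hφ : φ ≫ g = g') {h : T'' ⟶ T'} {ψ : T'' ⟶ T} (hψ : h ≫ φ = ψ) {g'' : T'' ⟶ X}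
    (hh : h ≫ g' = g'') (hψg : ψ ≫ g = g'') :
    ((A.comp B hφ).bc h hh).cls = (A.comp (B.bc h hψ) hψg).cls :=
  Subtype.ext (congrArg kerS (qb_qb A.s hφ hψ hh hψg B.s))

/-- A family of quotients is nested. -/
def Nested {m : ℕ} {n : Fin m → ℕ} {g : T ⟶ X} (D : ∀ i, QData E (n i) g) : Prop := ∀ i j, i ≤ j → Fac (D i) (D j)

/-- A nested family is universal. -/
def Univ {F : Scheme.{u}} {π : F ⟶ X} {m : ℕ} {n : Fin m → ℕ} (D : ∀ i, QData E (n i) π) : Prop :=
  ∀ (T : Scheme.{u}) (g : T ⟶ X) (S : ∀ i, QData E (n i) g), Nested S →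
    ∃! h : T ⟶ F, ∃ hg : h ≫ π = g, ∀ i, (D i).cls.bc h hg = (S i).cls

theorem univ_of_isFlag {F : Scheme.{u}} {π : F ⟶ X} {m : ℕ} {n : Fin m → ℕ} {Q : Fin m → F.Modules}
    {q : ∀ i, (Scheme.Modules.pullback π).obj E ⟶ Q i} (hF : IsFlag π E n Q q) :
    Univ (fun i => (⟨Q i, q i, hF.rank i, hF.epi i⟩ : QData E (n i) π)) := by
  intro T g S hS
  obtain ⟨h, ⟨hg, e, he⟩, huniq⟩ := hF.univ T g (fun i => (S i).L) (fun i => (S i).rank) (fun i => (S i).s)
    (fun i => (S i).epi) hS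
  refine ⟨h, ⟨hg, fun i => ?_⟩, fun h' ⟨hg', hh'⟩ => ?_⟩
  · rw [QData.bc_cls]
    exact cls_eq_of_iso (e i) (he i)
  · have key : ∀ i, ∃ e : (Scheme.Modules.pullback h').obj (Q i) ≅ (S i).L, qb (q i) hg' ≫ e.hom = (S i).s := by
      intro i
      haveI := hF.epi i
      haveI := epi_qb (q i) hg'
      haveI := (S i).epi
      refine exists_iso_of_kerS_eq (qb (q i) hg') (S i).s ?_
      have h1 := hh' i
      rw [QData.bc_cls] at h1
      exact congrArg Subtype.val h1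
    choose e' he' using key
    exact huniq h' ⟨hg', e', he'⟩

section step

variable {F G : Scheme.{u}} {π : F ⟶ X} {m : ℕ} {n : Fin (m + 1) → ℕ}
  {R : ∀ i : Fin m, QData E (n (Fin.castSucc i)) π} (A : QData E a π) {φ : G ⟶ F} {Q : G.Modules}
  {t : (Scheme.Modules.pullback φ).obj A.L ⟶ Q} (hG : IsGrass φ A.L (n (Fin.last m)) Q t)

/-- The family one step longer. -/
def stepD : ∀ i, QData E (n i) (φ ≫ π) :=
  Fin.lastCases (A.comp (⟨Q, t, hG.rank, hG.epi⟩ : QData A.L _ φ) rfl) fun i => (R i).bc φ rfl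

theorem stepD_last : stepD (R := R) A hG (Fin.last m) = A.comp (⟨Q, t, hG.rank, hG.epi⟩ : QData A.L _ φ) rfl :=
  Fin.lastCases_last ..

theorem stepD_castSucc (i : Fin m) : stepD (R := R) A hG (Fin.castSucc i) = (R i).bc φ rfl :=
  Fin.lastCases_castSucc ..

theorem nested_stepD (hn : Nested R) (hA : ∀ i, Fac (R i) A) : Nested (stepD (R := R) A hG) := by
  intro i j hij
  induction i using Fin.lastCases with
  | last =>
    obtain rfl : j = Fin.last m := le_antisymm (Fin.le_last j) hij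
    exact Fac.refl _
  | cast i =>
    rw [stepD_castSucc]
    induction j using Fin.lastCases with
    | last =>
      rw [stepD_last]
      exact ((hA i).bc φ rfl).trans ⟨t, rfl⟩
    | cast j =>
      rw [stepD_castSucc]
      exact (hn i j (Fin.castSucc_le_castSucc_iff.1 hij)).bc φ rfl

include hG in
theorem univ_stepD (hR : Univ R) (hA : IsIso A.s ∨ ∃ i, Fac A (R i)) : Univ (stepD (R := R) A hG) := by
  intro T g S hS
  let Q' : QData A.L (n (Fin.last m)) φ := ⟨Q, t, hG.rank, hG.epi⟩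
  obtain ⟨h₀, ⟨hg₀, hh₀⟩, huniq₀⟩ := hR T g (fun i => S (Fin.castSucc i))
    (fun i j hij => hS _ _ (Fin.castSucc_le_castSucc_iff.2 hij))
  obtain ⟨w, hw⟩ : Fac (A.bc h₀ hg₀) (S (Fin.last m)) := by
    rcases hA with hA | ⟨i, hi⟩
    · haveI := hA
      haveI : IsIso (A.bc h₀ hg₀).s := by
        show IsIso (qb A.s hg₀)
        rw [qb_eq]
        dsimp only [quotBC]
        infer_instance
      exact ⟨inv (A.bc h₀ hg₀).s ≫ (S (Fin.last m)).s, IsIso.hom_inv_id_assoc _ _⟩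
    · refine ((hi.bc h₀ hg₀).trans (Fac.of_cls ?_)).trans (hS _ _ (Fin.le_last (Fin.castSucc i)))
      rw [← QData.bc_cls]
      exact hh₀ i
  haveI : Epi w := by
    haveI : Epi ((A.bc h₀ hg₀).s ≫ w) := hw ▸ (S (Fin.last m)).epi
    exact epi_of_epi (A.bc h₀ hg₀).s w
  let B : QData A.L (n (Fin.last m)) h₀ := ⟨(S (Fin.last m)).L, w, (S (Fin.last m)).rank, inferInstance⟩
  have hB : (A.comp B hg₀).cls = (S (Fin.last m)).cls := Subtype.ext (congrArg kerS hw)
  obtain ⟨h, ⟨hhφ, hcl⟩, huniq⟩ := univ_existsUnique hG B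
  have hg : h ≫ φ ≫ π = g := by rw [reassoc_of% hhφ, hg₀]
  refine ⟨h, ⟨hg, fun i => ?_⟩, fun h' ⟨hg', hh'⟩ => ?_⟩
  · induction i using Fin.lastCases with
    | last =>
      rw [stepD_last, QData.bc_cls, QData.comp_bc A Q' rfl hhφ hg hg₀, ← hB]
      exact (QData.comp_cls_iff A _ _ hg₀).2 hcl
    | cast i =>
      rw [stepD_castSucc, ← QData.bc_cls, RQ.bc_bc, RQ.bc_congr _ hhφ _ hg₀]
      exact hh₀ i
  · have h1 : h' ≫ φ = h₀ := by
      refine huniq₀ _ ⟨by rw [Category.assoc, hg'], fun i => ?_⟩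
      have h2 := hh' (Fin.castSucc i)
      rw [stepD_castSucc, ← QData.bc_cls, RQ.bc_bc] at h2
      exact h2
    refine huniq h' ⟨h1, ?_⟩
    have h2 := hh' (Fin.last m)
    rw [stepD_last, QData.bc_cls, QData.comp_bc A Q' rfl h1 hg' hg₀, ← hB] at h2
    exact (QData.comp_cls_iff A _ _ hg₀).1 h2

end step

theorem isCoh_of_rank {F : Scheme.{u}} {M : F.Modules} {a : ℕ} (h : FlatMod.IsFinLocFreeOfRank a M) :
    Coh.IsCoh M := by
  obtain ⟨hq, hfp⟩ := isQCoh_and_isFP_of_isFinLocFree M fun z => ⟨(h z).choose, a, (h z).choose_spec⟩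
  haveI := hfp
  exact ⟨hq, inferInstance⟩

/-- The last quotient of a family, or the inverse image itself. -/
theorem exists_top {N : ℕ} (hE : FlatMod.IsFinLocFreeOfRank N E) {F : Scheme.{u}} {π : F ⟶ X} :
    ∀ {m : ℕ} {n : Fin m → ℕ} (R : ∀ i, QData E (n i) π), Nested R →
      ∃ A : QData E ((Fin.cons N n : Fin (m + 1) → ℕ) (Fin.last m)) π,
        (∀ i, Fac (R i) A) ∧ (IsIso A.s ∨ ∃ i, Fac A (R i))
  | 0, _, _, _ => ⟨⟨_, 𝟙 _, rank_pullback π E hE, inferInstance⟩, fun i => i.elim0, Or.inl (inferInstanceAs (IsIso (𝟙 _)))⟩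
  | m + 1, n, R, hn => by
    rw [show (Fin.cons N n : Fin (m + 2) → ℕ) (Fin.last (m + 1)) = n (Fin.last m) by
      rw [← Fin.succ_last, Fin.cons_succ]]
    exact ⟨R (Fin.last m), fun i => hn i _ (Fin.le_last i), Or.inr ⟨Fin.last m, Fac.refl _⟩⟩

/-- Flag schemes of a locally free module exist. -/
theorem exists_univ_flag {N : ℕ} (hE : FlatMod.IsFinLocFreeOfRank N E) :
    ∀ {m : ℕ} (n : Fin m → ℕ), ∃ (F : Scheme.{u}) (π : F ⟶ X) (D : ∀ i, QData E (n i) π), Nested D ∧ Univ D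
  | 0, _ => ⟨X, 𝟙 X, fun i => i.elim0, fun i => i.elim0, fun T g _ _ =>
      ⟨g, ⟨Category.comp_id g, fun i => i.elim0⟩, fun h ⟨hh, _⟩ => by simpa using hh⟩⟩
  | m + 1, n => by
    obtain ⟨F, π, R, hn, hR⟩ := exists_univ_flag hE (fun i : Fin m => n (Fin.castSucc i))
    obtain ⟨A, hA₁, hA₂⟩ := exists_top hE R hn
    obtain ⟨G, φ, Q, t, hG⟩ := exists_isGrass A.L (isCoh_of_rank A.rank) (n (Fin.last m))
    exact ⟨G, φ ≫ π, stepD A hG, nested_stepD A hG hn hA₁, univ_stepD A hG hR hA₂⟩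

theorem Univ.hom_ext {F : Scheme.{u}} {π : F ⟶ X} {m : ℕ} {n : Fin m → ℕ} {D : ∀ i, QData E (n i) π} (hD : Univ D)
    {g : T ⟶ X} {S : ∀ i, QData E (n i) g} (hS : Nested S) {h h' : T ⟶ F} (hg : h ≫ π = g) (hg' : h' ≫ π = g)
    (e : ∀ i, (D i).cls.bc h hg = (S i).cls) (e' : ∀ i, (D i).cls.bc h' hg' = (S i).cls) : h = h' :=
  (hD T g S hS).unique ⟨hg, e⟩ ⟨hg', e'⟩

theorem Univ.exists_iso {F F' : Scheme.{u}} {π : F ⟶ X} {π' : F' ⟶ X} {m : ℕ} {n : Fin m → ℕ}
    {D : ∀ i, QData E (n i) π} {D' : ∀ i, QData E (n i) π'} (hn : Nested D) (hn' : Nested D') (hD : Univ D)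
    (hD' : Univ D') : ∃ (v : F ≅ F') (hv : v.hom ≫ π' = π), ∀ i, (D' i).cls.bc v.hom hv = (D i).cls := by
  obtain ⟨u, ⟨hu, eu⟩, -⟩ := hD' F π D hn
  obtain ⟨w, ⟨hw, ew⟩, -⟩ := hD F' π' D' hn'
  refine ⟨⟨u, w, hD.hom_ext hn (g := π) (by rw [Category.assoc, hw, hu]) (Category.id_comp π) (fun i => ?_)
    (fun i => RQ.bc_id _), hD'.hom_ext hn' (g := π') (by rw [Category.assoc, hu, hw]) (Category.id_comp π')
    (fun i => ?_) (fun i => RQ.bc_id _)⟩, hu, eu⟩
  · rw [← RQ.bc_bc _ w hw u hu, ew, eu]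
  · rw [← RQ.bc_bc _ u hu w hw, eu, ew]

set_option maxHeartbeats 1600000 in
/-- Forgetting the last steps of a flag scheme is smooth, proper and surjective, and keeps irreducibility. -/
theorem flag_props {N : ℕ} (hE : FlatMod.IsFinLocFreeOfRank N E) :
    ∀ (m : ℕ) (n : Fin m → ℕ), StrictAnti n → (∀ i, n i < N) →
      ∀ (F : Scheme.{u}) (π : F ⟶ X) (D : ∀ i, QData E (n i) π), Nested D → Univ D →
      ∀ (k : ℕ) (hk : k ≤ m) (F₀ : Scheme.{u}) (π₀ : F₀ ⟶ X) (D₀ : ∀ i, QData E (n (Fin.castLE hk i)) π₀),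
        Nested D₀ → Univ D₀ → ∀ (φ : F ⟶ F₀) (hφ : φ ≫ π₀ = π),
          (∀ i, (D₀ i).cls.bc φ hφ = (D (Fin.castLE hk i)).cls) →
          SmoothOfRelativeDimension
            (∑ i : Fin m, if k ≤ (i : ℕ) then n i * ((Fin.cons N n : Fin (m + 1) → ℕ) (Fin.castSucc i) - n i) else 0)
            φ ∧ IsProper φ ∧ Surjective φ ∧ (IrreducibleSpace F₀ → IrreducibleSpace F) := by
  intro m
  induction m with
  | zero =>
    intro n _ _ F π D hn hD k hk F₀ π₀ D₀ hn₀ hD₀ φ hφ _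
    obtain rfl : k = 0 := Nat.le_zero.1 hk
    have hiso : IsIso φ := by
      obtain ⟨v, hv, -⟩ := hD.exists_iso hn hn₀ (D' := D₀) hD₀
      have : φ = v.hom := hD₀.hom_ext (g := π) (S := fun i => i.elim0) (fun i => i.elim0) hφ hv
        (fun i => i.elim0) (fun i => i.elim0)
      rw [this]; infer_instance
    refine ⟨?_, inferInstance, inferInstance, fun h => (asIso φ).hom.homeomorph.irreducibleSpace_iff.2 h⟩
    simp only [Finset.univ_eq_empty, Finset.sum_empty]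
    infer_instance
  | succ m ih =>
    intro n hanti hN F π D hn hD k hk F₀ π₀ D₀ hn₀ hD₀ φ hφ hcl
    by_cases hkm : k = m + 1
    · subst hkm
      obtain ⟨v, hv, ev⟩ := hD.exists_iso hn hn₀ (D' := D₀) hD₀
      have : φ = v.hom := hD₀.hom_ext (g := π) (S := D) hn hφ hv hcl ev
      subst this
      refine ⟨?_, inferInstance, inferInstance, fun h => v.hom.homeomorph.irreducibleSpace_iff.2 h⟩
      rw [Finset.sum_eq_zero fun i _ => if_neg (not_le.2 i.2)]
      infer_instance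
    · have hk' : k ≤ m := by omega
      obtain ⟨F₁, π₁, D₁, hn₁, hD₁⟩ := exists_univ_flag hE (fun i : Fin m => n (Fin.castSucc i))
      obtain ⟨A, hA₁, hA₂⟩ := exists_top hE D₁ hn₁
      haveI : Coh.IsQCoh A.L := (isCoh_of_rank A.rank).1
      obtain ⟨G, φG, Q, t, hG⟩ := exists_isGrass A.L (isCoh_of_rank A.rank) (n (Fin.last m))
      obtain ⟨v, hv, ev⟩ := hD.exists_iso hn (nested_stepD A hG hn₁ hA₁) (univ_stepD A hG hD₁ hA₂)
      let S : ∀ i : Fin k, QData E (n (Fin.castLE hk i)) π₁ := fun i => D₁ (Fin.castLE hk' i)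
      obtain ⟨φ₁, ⟨hφ₁, eφ₁⟩, -⟩ := hD₀ F₁ π₁ S fun i j hij => hn₁ _ _ hij
      obtain ⟨hsm, hpr, hsu, hirr⟩ := ih (fun i => n (Fin.castSucc i)) (fun i j hij => hanti hij)
        (fun i => hN _) F₁ π₁ D₁ hn₁ hD₁ k hk' F₀ π₀ D₀ hn₀ hD₀ φ₁ hφ₁ eφ₁
      have hcomp : φ = v.hom ≫ φG ≫ φ₁ := by
        refine hD₀.hom_ext (g := π) (S := fun i => D (Fin.castLE hk i)) (fun i j hij => hn _ _ hij) hφ
          (by rw [Category.assoc, Category.assoc, hφ₁, hv]) hcl fun i => ?_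
        have h1 : (D₀ i).cls.bc (φG ≫ φ₁) (by rw [Category.assoc, hφ₁]) =
            ((stepD (R := D₁) A hG) (Fin.castSucc (Fin.castLE hk' i))).cls := by
          rw [stepD_castSucc, ← QData.bc_cls, ← RQ.bc_bc _ φ₁ hφ₁ φG rfl, eφ₁]
        rw [← RQ.bc_bc _ (φG ≫ φ₁) (by rw [Category.assoc, hφ₁]) v.hom hv, h1]
        exact ev _
      have hle : n (Fin.last m) ≤ (Fin.cons N fun i : Fin m => n (Fin.castSucc i) : Fin (m + 1) → ℕ) (Fin.last m) := by
        obtain rfl | ⟨m', rfl⟩ : m = 0 ∨ ∃ m', m = m' + 1 := by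
          rcases m with _ | m'; exacts [Or.inl rfl, Or.inr ⟨m', rfl⟩]
        · exact (hN _).le
        · rw [← Fin.succ_last, Fin.cons_succ]
          exact (hanti Fin.castSucc_lt_succ).le
      haveI := smooth_grass hG A.rank
      haveI := surjective_grass hG A.rank hle
      haveI := isProper_grass hG (isCoh_of_rank A.rank).2
      haveI := hsm
      haveI := hpr
      haveI := hsu
      subst hcomp
      refine ⟨?_, inferInstance, inferInstance, fun h => ?_⟩
      · let d := n (Fin.last m) *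
          ((Fin.cons N fun i : Fin m => n (Fin.castSucc i) : Fin (m + 1) → ℕ) (Fin.last m) - n (Fin.last m))
        have hc : (Fin.cons N n : Fin (m + 2) → ℕ) ∘ Fin.castSucc =
            (Fin.cons N fun i : Fin m => n (Fin.castSucc i) : Fin (m + 1) → ℕ) := by
          funext i
          induction i using Fin.cases with
          | zero => rfl
          | succ i => simp only [Function.comp_apply, ← Fin.succ_castSucc, Fin.cons_succ]
        rw [Fin.sum_univ_castSucc, Fin.val_last, if_pos hk']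
        simp only [Fin.val_castSucc, ← Function.comp_apply (f := (Fin.cons N n : Fin (m + 2) → ℕ)), hc]
        let e₁ := ∑ i : Fin m, if k ≤ (i : ℕ) then n (Fin.castSucc i) *
            ((Fin.cons N fun i : Fin m => n (Fin.castSucc i) : Fin (m + 1) → ℕ) (Fin.castSucc i) -
              n (Fin.castSucc i)) else 0
        haveI h1 : SmoothOfRelativeDimension (d + e₁) (φG ≫ φ₁) := inferInstance
        have h2 : SmoothOfRelativeDimension (0 + (d + e₁)) (v.hom ≫ φG ≫ φ₁) := inferInstance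
        rw [zero_add, add_comm] at h2
        exact h2
      · haveI := hirr h
        haveI := irreducible_grass hG A.rank hle
        exact v.hom.homeomorph.irreducibleSpace_iff.2 inferInstance

end Groth.Agent.GrassShLib
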