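import Groth.Agent.GrassShLib.Chart
import Groth.Agent.KRRAmple.Cover
import Groth.Agent.OverRep.Main

/-!
# Existence of Grassmannians of quasi-coherent modules of finite type
-/

set_option autoImplicit false
set_option backward.isDefEq.respectTransparency false
set_option linter.style.haveILetI false

universe u

open CategoryTheory CategoryTheory.Limits AlgebraicGeometry TopologicalSpace Opposite Grass
open Groth.Agent.PullbackMod Groth.Agent.FlagLib Groth.Agent.DegDevLib

noncomputable section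

namespace Groth.Agent.GrassShLib

variable {X : Scheme.{u}} {E : X.Modules} {r : ℕ}

theorem exists_open_chart [Coh.IsQCoh E] (i : Idx E r) (T : Over X) (N : RQ E r T.hom) :
    ∃ V : T.left.Opens, ∀ (T' : Over X) (t : T' ⟶ T),
      (∃ a : T' ⟶ i.Z, i.univD.cls.bc a.left (Over.w a) = N.bc t.left (Over.w t)) ↔
        Set.range t.left ⊆ V := by
  obtain ⟨D, rfl⟩ := N.exists_cls
  let W : T.left.Opens := T.hom ⁻¹ᵁ i.U
  let v : Fin r → Γ(D.L, W) := fun k => vecS D le_rfl (i.σ (i.I k))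
  refine ⟨spanLocus D.rank v, fun T' t => ?_⟩
  constructor
  · rintro ⟨a, ha⟩ _ ⟨y, rfl⟩
    rw [QData.bc_cls, QData.bc_cls] at ha
    haveI := (i.univD.bc a.left (Over.w a)).epi
    haveI := (D.bc t.left (Over.w t)).epi
    obtain ⟨ε, hε⟩ := exists_iso_of_kerS_eq _ _ (congrArg Subtype.val ha)
    have e' := i.le_preimage_comp a
    have hmem : ∀ z : T'.left, t.left z ∈ W := fun z => by
      show T.hom (t.left z) ∈ i.U
      rw [← Scheme.Hom.comp_apply, Over.w t]
      exact e' trivial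
    have h1 : SpanAt (fun k => vecS (i.univD.bc a.left (Over.w a)) e' (i.σ (i.I k))) y trivial := by
      have h2 := ((isFrame_iff_spanAt (i.univD.bc a.left (Over.w a)).rank _).1 (i.isFrame_frameBC a)) y trivial
      convert h2 using 2 with k
      exact (vecS_bc_top i.univD a.left (Over.w a) i.le_preimage e' _).trans (congrArg _ (i.vecS_univ_self k))
    have h3 := h1.map ε.hom
    simp only [vecS_iso ε hε] at h3
    have hW : ⊤ ≤ t.left ⁻¹ᵁ W := fun z _ => hmem z
    simp only [vecS_bc D t.left (Over.w t) le_rfl e' hW] at h3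
    exact ⟨hmem y, (spanAt_pullMap_iff t.left D.rank hW trivial).1 h3⟩
  · intro h
    have e : ⊤ ≤ T'.hom ⁻¹ᵁ i.U := fun y _ => by
      show T'.hom y ∈ i.U
      rw [← Over.w t]
      exact (h ⟨y, rfl⟩).1
    have hW : ⊤ ≤ t.left ⁻¹ᵁ W := fun y _ => (h ⟨y, rfl⟩).1
    obtain ⟨a, ha⟩ := i.exists_lift (D.bc t.left (Over.w t)) e fun y => by
      simp only [vecS_bc D t.left (Over.w t) le_rfl e hW]
      exact (spanAt_pullMap_iff t.left D.rank hW trivial).2 (h ⟨y, rfl⟩).2
    exact ⟨a, ha.trans (QData.bc_cls _ _ _).symm⟩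

theorem exists_chart_near [Coh.IsQCoh E] (hE : CohB1.IsFT E) (T : Over X) (N : RQ E r T.hom) (p : T.left) :
    ∃ (i : Idx E r) (T' : Over X) (t : T' ⟶ T) (a : T' ⟶ i.Z),
      IsOpenImmersion t.left ∧ p ∈ Set.range t.left ∧
        i.univD.cls.bc a.left (Over.w a) = N.bc t.left (Over.w t) := by
  classical
  obtain ⟨D, hD⟩ := N.exists_cls
  obtain ⟨_, ⟨U : X.Opens, hU : IsAffineOpen U, rfl⟩, hpU, -⟩ :=
    X.isBasis_affineOpens.exists_subset_of_mem_open (Set.mem_univ (T.hom p)) isOpen_univ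
  haveI := QCohLib.finite_sections E hE hU
  obtain ⟨n, σ, hσ⟩ := Module.Finite.exists_fin (R := Γ(X, U)) (M := Γ(E, U))
  let W : T.left.Opens := T.hom ⁻¹ᵁ U
  have hspan := spanAt_vecS D hU hσ (W := W) le_rfl (hpU : p ∈ W)
  have hL' : FlatMod.IsFinLocFree D.L := fun z => ⟨(D.rank z).choose, r, (D.rank z).choose_spec⟩
  obtain ⟨hq, hp⟩ := isQCoh_and_isFP_of_isFinLocFree D.L hL'
  haveI := hq
  obtain ⟨a₀⟩ := (isFinLocFreeOfRank_iff_freeAt D.L hp r).1 D.rank p
  obtain ⟨γ, hγs, hγ⟩ := KRRAmple.exists_tuple_spanning a₀ _ hspan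
  choose I hI using hγs
  have hI' : SpanAt (fun k => vecS D le_rfl (σ (I k))) p (hpU : p ∈ W) := by
    rw [SpanAt, ← hγ]
    congr 2
    exact funext hI
  have hinj : Function.Injective I := fun k l hkl => by
    have hb := (bijective_of_spanAt D.rank hI').1
    have h1 := @hb (Pi.single k 1) (Pi.single l 1) (by
      simp [Fintype.linearCombination_apply_single, hkl])
    by_contra hne
    have := congrFun h1 k
    rw [Pi.single_eq_same, Pi.single_eq_of_ne hne] at this
    exact one_ne_zero this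
  let i : Idx E r := ⟨U, hU, n, σ, hσ, ⟨I, hinj⟩⟩
  let v : Fin r → Γ(D.L, W) := fun k => vecS D le_rfl (σ (I k))
  let V := spanLocus D.rank v
  let T' : Over X := Over.mk (V.ι ≫ T.hom)
  let t : T' ⟶ T := Over.homMk V.ι rfl
  have hV : ∀ y : T'.left, ∃ hy : t.left y ∈ W, SpanAt v (t.left y) hy := fun y => y.2
  have e : ⊤ ≤ T'.hom ⁻¹ᵁ U := fun y _ => (hV y).1
  have hW : ⊤ ≤ t.left ⁻¹ᵁ W := fun y _ => (hV y).1
  obtain ⟨a, ha⟩ := i.exists_lift (D.bc t.left (Over.w t)) e fun y => by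
    show SpanAt (fun k => vecS (D.bc t.left (Over.w t)) e (σ (I k))) y trivial
    simp only [vecS_bc D t.left (Over.w t) le_rfl e hW]
    exact (spanAt_pullMap_iff t.left D.rank hW trivial).2 (hV y).2
  refine ⟨i, T', t, a, inferInstanceAs (IsOpenImmersion V.ι), ⟨⟨p, hpU, hI'⟩, rfl⟩, ?_⟩
  rw [ha, ← hD, QData.bc_cls]

/-- Grassmannians exist. -/
theorem exists_isGrass (E : X.Modules) (hE : Coh.IsCoh E) (r : ℕ) :
    ∃ (G : Scheme.{u}) (π : G ⟶ X) (Q : G.Modules) (q : (Scheme.Modules.pullback π).obj E ⟶ Q),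
      Grass.IsGrass π E r Q q := by
  haveI : Coh.IsQCoh E := hE.1
  obtain ⟨Y, ⟨R⟩⟩ := OverRep.exists_representableBy_of_cover (isSheaf_grassFun E r)
    (fun i : Idx E r => i.Z) (fun i => i.univD.cls) (fun i S a b h => i.hinj S a b h)
    (fun i T s => exists_open_chart i T s) (fun T s p => exists_chart_near hE.2 T s p)
  let N : RQ E r Y.hom := R.homEquiv (𝟙 Y)
  obtain ⟨D, hD⟩ := N.exists_cls
  refine ⟨Y.left, Y.hom, D.L, D.s, D.rank, D.epi, fun T g L hL s hs => ?_⟩
  let S : QData E r (Over.mk g).hom := ⟨L, s, hL, hs⟩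
  have key : ∀ h : Over.mk g ⟶ Y, R.homEquiv h = (D.bc h.left (Over.w h)).cls := fun h => by
    rw [R.homEquiv_eq]
    show N.bc h.left (Over.w h) = _
    rw [← hD, QData.bc_cls]
  obtain ⟨h, hh⟩ := R.homEquiv.surjective S.cls
  replace hh : (D.bc h.left (Over.w h)).cls = S.cls := (key h).symm.trans hh
  refine ⟨h.left, ⟨Over.w h, ?_⟩, ?_⟩
  · haveI := (D.bc h.left (Over.w h)).epi
    haveI := hs
    exact exists_iso_of_kerS_eq (D.bc h.left (Over.w h)).s s (congrArg Subtype.val hh)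
  · rintro h' ⟨hg', ε, hε⟩
    let h₁ : Over.mk g ⟶ Y := Over.homMk h' hg'
    have : R.homEquiv h₁ = R.homEquiv h := by
      refine ((key h₁).trans ?_).trans (key h).symm
      rw [hh]
      refine Subtype.ext ?_
      show kerS (qb D.s hg') = kerS s
      rw [← hε]
      exact (kerS_comp_iso _ ε).symm
    exact congrArg CommaMorphism.left (R.homEquiv.injective this)

end Groth.Agent.GrassShLib
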