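import Groth.Agent.GrassRepLib.MapEpi
import Groth.Agent.SubLib.Basic
import Groth.Agent.DCohLib.Pullback
import Groth.Agent.GenBCLib.PullOn
import Groth.Agent.DCohLib.Restrict
import Groth.Agent.ParaFLib.Basic

/-!
# Quotient modules by their kernels on stalks, and glueing of quotients
-/

set_option autoImplicit false
set_option backward.isDefEq.respectTransparency false
set_option linter.style.haveILetI false

universe u

open CategoryTheory CategoryTheory.Limits AlgebraicGeometry TopologicalSpace Opposite Grass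
open Groth.Agent.PullbackMod Groth.Agent.FlagLib

noncomputable section

namespace Groth.Agent.GrassShLib

variable {T : Scheme.{u}} {M : T.Modules}

/-- The kernels of a map of modules on stalks. -/
def kerS {L : T.Modules} (s : M ⟶ L) : SubLib.StalkSub M := fun x => LinearMap.ker (stalkLin s x)

theorem mem_kerS {L : T.Modules} (s : M ⟶ L) (x : T) (z : M.presheaf.stalk x) :
    z ∈ kerS s x ↔ stalkLin s x z = 0 := Iff.rfl

theorem kerS_comp_iso {L L' : T.Modules} (s : M ⟶ L) (e : L ≅ L') : kerS (s ≫ e.hom) = kerS s := by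
  funext x
  have hinj := (mono_iff_stalk e.hom).1 inferInstance x
  refine SetLike.ext fun z => ?_
  rw [mem_kerS, mem_kerS, stalkLin_comp, LinearMap.comp_apply]
  exact ⟨fun h => hinj (h.trans (map_zero _).symm), fun h => by rw [h, map_zero]⟩

theorem comp_eq_zero_of_kerS_le {K L L' : T.Modules} (ι : K ⟶ M) {s : M ⟶ L} {s' : M ⟶ L'}
    (h : ∀ x, kerS s x ≤ kerS s' x) (hι : ι ≫ s = 0) : ι ≫ s' = 0 := by
  refine (eq_zero_iff_stalk _).2 fun x => LinearMap.ext fun z => ?_
  rw [stalkLin_comp, LinearMap.comp_apply, LinearMap.zero_apply]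
  refine h x ?_
  rw [mem_kerS, ← LinearMap.comp_apply, ← stalkLin_comp, (eq_zero_iff_stalk _).1 hι x, LinearMap.zero_apply]

theorem exists_factor_of_kerS_le {L L' : T.Modules} (s : M ⟶ L) [Epi s] (s' : M ⟶ L')
    (h : ∀ x, kerS s x ≤ kerS s' x) : ∃ e : L ⟶ L', s ≫ e = s' :=
  ⟨Abelian.epiDesc s s' (comp_eq_zero_of_kerS_le (kernel.ι s) h (kernel.condition s)), Abelian.comp_epiDesc _ _ _⟩

theorem exists_iso_of_kerS_eq {L L' : T.Modules} (s : M ⟶ L) [Epi s] (s' : M ⟶ L') [Epi s']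
    (h : kerS s = kerS s') : ∃ e : L ≅ L', s ≫ e.hom = s' := by
  obtain ⟨a, ha⟩ := exists_factor_of_kerS_le s s' fun x => (congrFun h x).le
  obtain ⟨b, hb⟩ := exists_factor_of_kerS_le s' s fun x => (congrFun h x).ge
  refine ⟨⟨a, b, ?_, ?_⟩, ha⟩
  · rw [← cancel_epi s, ← Category.assoc, ha, hb, Category.comp_id]
  · rw [← cancel_epi s', ← Category.assoc, hb, ha, Category.comp_id]

/-! ### Open immersions -/

theorem bijective_pullStalk_openImm {U : Scheme.{u}} (t : U ⟶ T) [IsOpenImmersion t] (M : T.Modules) (x' : U) :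
    Function.Bijective (pullStalk t M x') := by
  let S := U.presheaf.stalk x'
  letI : Algebra (T.presheaf.stalk (t x')) S := (t.stalkMap x').hom.toAlgebra
  let gM := (Scheme.Modules.pullback t).obj M
  letI := Module.compHom (gM.presheaf.stalk x') (t.stalkMap x').hom
  haveI : IsScalarTower (T.presheaf.stalk (t x')) S (gM.presheaf.stalk x') :=
    .of_algebraMap_smul fun _ _ => rfl
  have h : IsBaseChange S (pullStalkL t M x') := isBaseChange_pullStalkL' t M x'
  let e := RingEquiv.ofBijective (t.stalkMap x').hom (ConcreteCategory.bijective_of_isIso (t.stalkMap x'))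
  let eA : T.presheaf.stalk (t x') ≃ₗ[T.presheaf.stalk (t x')] S :=
    LinearEquiv.ofBijective (Algebra.linearMap (T.presheaf.stalk (t x')) S) e.bijective
  let c := (TensorProduct.lid (T.presheaf.stalk (t x')) (M.presheaf.stalk (t x'))).symm.trans
    ((eA.rTensor (M.presheaf.stalk (t x'))).trans (h.equiv.restrictScalars (T.presheaf.stalk (t x'))))
  have hc : ∀ z, c z = pullStalk t M x' z := fun z => by
    simp only [c, LinearEquiv.trans_apply, TensorProduct.lid_symm_apply, LinearEquiv.rTensor_tmul,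
      LinearEquiv.restrictScalars_apply]
    rw [show eA 1 = 1 from map_one (algebraMap (T.presheaf.stalk (t x')) S), IsBaseChange.equiv_tmul, one_smul]
    rfl
  rw [← funext hc]
  exact c.bijective

theorem stalk_pullback_zero_iff {U : Scheme.{u}} (t : U ⟶ T) [IsOpenImmersion t] {N : T.Modules} (φ : M ⟶ N)
    (x' : U) (z : M.presheaf.stalk (t x')) :
    stalkLin ((Scheme.Modules.pullback t).map φ) x' (pullStalk t M x' z) = 0 ↔ stalkLin φ (t x') z = 0 := by
  rw [pullStalk_natural]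
  exact ⟨fun h => (bijective_pullStalk_openImm t N x').1 (h.trans (map_zero _).symm), fun h => by rw [h, map_zero]⟩

theorem eq_zero_of_cover {σ : Type*} {U : σ → Scheme.{u}} (t : ∀ i, U i ⟶ T) [∀ i, IsOpenImmersion (t i)]
    (hcov : ∀ x : T, ∃ i y, t i y = x) {N : T.Modules} (φ : M ⟶ N)
    (h : ∀ i, (Scheme.Modules.pullback (t i)).map φ = 0) : φ = 0 := by
  refine (eq_zero_iff_stalk φ).2 fun x => LinearMap.ext fun z => ?_
  obtain ⟨i, y, rfl⟩ := hcov x
  rw [LinearMap.zero_apply, ← stalk_pullback_zero_iff (t i) φ y z, (eq_zero_iff_stalk _).1 (h i) y, LinearMap.zero_apply]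

theorem pullStalk_comp {W U : Scheme.{u}} (a : W ⟶ U) (t : U ⟶ T) (w : W) (z : M.presheaf.stalk (t (a w))) :
    stalkLin ((Scheme.Modules.pullbackComp a t).hom.app M) w
        (pullStalk a ((Scheme.Modules.pullback t).obj M) w (pullStalk t M (a w) z)) =
      pullStalk (a ≫ t) M w z := by
  obtain ⟨V, hV, m, rfl⟩ := TopCat.Presheaf.exists_germ_eq M.presheaf z
  have e₁ : t ⁻¹ᵁ V ≤ t ⁻¹ᵁ V := le_rfl
  have e₂ : a ⁻¹ᵁ (t ⁻¹ᵁ V) ≤ a ⁻¹ᵁ (t ⁻¹ᵁ V) := le_rfl
  rw [pullStalk_germ' t M (a w) hV hV e₁ m, pullStalk_germ' a _ w hV hV e₂]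
  erw [stalkLin_germ]
  rw [GenBCLib.pullMap_comp a t M e₁ e₂ le_rfl m]
  exact (pullStalk_germ' (a ≫ t) M w hV hV le_rfl m).symm

/-- Kernels of a pulled back quotient at points of an open immersion. -/
theorem qb_zero_iff {W U : Scheme.{u}} {L : U.Modules} (a : W ⟶ U) [IsOpenImmersion a] (t : U ⟶ T)
    (r : (Scheme.Modules.pullback t).obj M ⟶ L) {τ : W ⟶ T} (hτ : a ≫ t = τ) (w : W) {V : T.Opens}
    (hx : t (a w) ∈ V) (hx' : τ w ∈ V) (m : Γ(M, V)) :
    stalkLin (qb r hτ) w (pullStalk τ M w (M.presheaf.germ V (τ w) hx' m)) = 0 ↔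
      stalkLin r (a w) (pullStalk t M (a w) (M.presheaf.germ V (t (a w)) hx m)) = 0 := by
  subst hτ
  change stalkLin (qb r (rfl : a ≫ t = a ≫ t)) w (pullStalk (a ≫ t) M w (M.presheaf.germ V (t (a w)) hx m)) = 0 ↔ _
  rw [qb_rfl, ← pullStalk_comp, ← LinearMap.comp_apply, ← stalkLin_comp, Iso.hom_inv_id_app_assoc]
  exact stalk_pullback_zero_iff a r w _

/-! ### Glueing -/

section glue

variable {σ : Type u} {U : σ → Scheme.{u}} (t : ∀ i, U i ⟶ T) [∀ i, IsOpenImmersion (t i)]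
  {L : ∀ i, (U i).Modules} (s : ∀ i, (Scheme.Modules.pullback (t i)).obj M ⟶ L i)

/-- Germs of sections killed by all the local quotients. -/
def Killed (x : T) (z : M.presheaf.stalk x) : Prop :=
  ∀ (i : σ) (y : U i) (e : t i y = x) (V : T.Opens) (hx : x ∈ V) (m : Γ(M, V)), M.presheaf.germ V x hx m = z →
    stalkLin (s i) y (pullStalk (t i) M y (M.presheaf.germ V (t i y) (e ▸ hx) m)) = 0

/-- The kernel of the glued quotient. -/
def glueKer : SubLib.StalkSub M := fun x =>
  { carrier := {z | Killed t s x z}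
    add_mem' := fun {z z'} hz hz' => by
      intro i y e V hx m hm
      subst e
      obtain ⟨V₁, h₁, m₁, rfl⟩ := TopCat.Presheaf.exists_germ_eq M.presheaf z
      obtain ⟨V₂, h₂, m₂, rfl⟩ := TopCat.Presheaf.exists_germ_eq M.presheaf z'
      rw [show M.presheaf.germ V (t i y) hx m = _ from hm, map_add, map_add,
        hz i y rfl V₁ h₁ m₁ rfl, hz' i y rfl V₂ h₂ m₂ rfl, add_zero]
    zero_mem' := by
      intro i y e V hx m hm
      subst e
      rw [show M.presheaf.germ V (t i y) hx m = _ from hm, map_zero, map_zero]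
    smul_mem' := fun a z hz => by
      intro i y e V hx m hm
      subst e
      obtain ⟨V₁, h₁, m₁, rfl⟩ := TopCat.Presheaf.exists_germ_eq M.presheaf z
      rw [show M.presheaf.germ V (t i y) hx m = _ from hm, pullStalk_smul, map_smul,
        hz i y rfl V₁ h₁ m₁ rfl, smul_zero] }

variable (hcov : ∀ x : T, ∃ i y, t i y = x)
  (hcompat : ∀ i k, kerS (qb (s i) (rfl : pullback.fst (t i) (t k) ≫ t i = pullback.fst (t i) (t k) ≫ t i)) =
    kerS (qb (s k) (pullback.condition.symm : pullback.snd (t i) (t k) ≫ t k = pullback.fst (t i) (t k) ≫ t i)))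

include hcompat in
theorem mem_glueKer_iff (i : σ) (y : U i) (z : M.presheaf.stalk (t i y)) :
    z ∈ glueKer t s (t i y) ↔ stalkLin (s i) y (pullStalk (t i) M y z) = 0 := by
  obtain ⟨V, hV, m, rfl⟩ := TopCat.Presheaf.exists_germ_eq M.presheaf z
  refine ⟨fun h => h i y rfl V hV m rfl, fun h k y' e V' hx' m' hm' => ?_⟩
  obtain ⟨w, hw₁, hw₂⟩ := Scheme.Pullback.exists_preimage_pullback y y' e.symm
  subst hw₁ hw₂
  let a := pullback.fst (t i) (t k)
  let b := pullback.snd (t i) (t k)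
  have hab : b ≫ t k = a ≫ t i := pullback.condition.symm
  have hx0 : (a ≫ t i) w ∈ V' := hx'
  rw [← qb_zero_iff b (t k) (s k) hab w _ hx0 m', ← mem_kerS, ← congrFun (hcompat i k) w, mem_kerS,
    qb_zero_iff a (t i) (s i) rfl w hx' hx0 m']
  rw [hm']
  exact h

/-- The glued quotient map. -/
def gluedπ : M ⟶ cokernel (SubLib.subι (glueKer t s)) := cokernel.π _

include hcompat in
theorem kerS_gluedπ (i : σ) (y : U i) (z : M.presheaf.stalk (t i y)) :
    stalkLin (gluedπ t s) (t i y) z = 0 ↔ stalkLin (s i) y (pullStalk (t i) M y z) = 0 := by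
  let S := ShortComplex.mk (SubLib.subι (glueKer t s)) (gluedπ t s) (cokernel.condition _)
  haveI : Epi S.g := inferInstanceAs (Epi (cokernel.π _))
  have hex := DCohLib.exact_stalkLin S (ShortComplex.exact_cokernel _) (t i y)
  rw [show stalkLin (gluedπ t s) (t i y) z = stalkLin S.g (t i y) z from rfl, hex z]
  constructor
  · rintro ⟨w, rfl⟩
    obtain ⟨V, hV, w, rfl⟩ := TopCat.Presheaf.exists_germ_eq (SubLib.subMod (glueKer t s)).presheaf w
    show stalkLin (s i) y (pullStalk (t i) M y (stalkLin (SubLib.subι (glueKer t s)) (t i y) _)) = 0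
    rw [stalkLin_germ, ← mem_glueKer_iff t s hcompat]
    exact SubLib.mem_sec_of_app _ _ w (t i y) hV
  · intro hz
    obtain ⟨V, hV, m, rfl⟩ := TopCat.Presheaf.exists_germ_eq M.presheaf z
    rw [pullStalk_germ' (t i) M y hV hV le_rfl m, stalkLin_germ] at hz
    obtain ⟨W, hyW, j₁, j₂, hW⟩ := (L i).presheaf.germ_eq (U := t i ⁻¹ᵁ V) (V := t i ⁻¹ᵁ V) y hV hV _ 0 (hz.trans (map_zero _).symm)
    let O : T.Opens := t i ''ᵁ W
    have hO : O ≤ V := fun x ⟨y', hy', e⟩ => e ▸ j₁.le hy'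
    have hsec : M.presheaf.map (homOfLE hO).op m ∈ SubLib.sec (glueKer t s) O := by
      rintro x ⟨y', hy', rfl⟩
      rw [TopCat.Presheaf.germ_res_apply]
      have h2 := congrArg ((L i).presheaf.germ W y' hy') hW
      rw [TopCat.Presheaf.germ_res_apply, TopCat.Presheaf.germ_res_apply, map_zero] at h2
      refine (mem_glueKer_iff t s hcompat i y' _).2 ?_
      erw [pullStalk_germ' (t i) M y' (j₁.le hy') (j₁.le hy') le_rfl m, stalkLin_germ]
      exact h2
    refine ⟨(SubLib.subMod (glueKer t s)).presheaf.germ O (t i y) ⟨y, hyW, rfl⟩ ⟨_, hsec⟩, ?_⟩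
    show stalkLin (SubLib.subι (glueKer t s)) (t i y) _ = _
    rw [stalkLin_germ]
    exact TopCat.Presheaf.germ_res_apply M.presheaf (homOfLE hO) (t i y) ⟨y, hyW, rfl⟩ m

include hcompat in
theorem exists_iso_glued [∀ i, Epi (s i)] (i : σ) :
    ∃ e : (Scheme.Modules.pullback (t i)).obj (cokernel (SubLib.subι (glueKer t s))) ≅ L i,
      (Scheme.Modules.pullback (t i)).map (gluedπ t s) ≫ e.hom = s i := by
  haveI : Epi (gluedπ t s) := inferInstanceAs (Epi (cokernel.π _))
  haveI : Epi ((Scheme.Modules.pullback (t i)).map (gluedπ t s)) := epi_pullback_map _ _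
  refine exists_iso_of_kerS_eq _ _ ?_
  funext y
  refine SetLike.ext fun z => ?_
  obtain ⟨z, rfl⟩ := (bijective_pullStalk_openImm (t i) M y).2 z
  rw [mem_kerS, mem_kerS, stalk_pullback_zero_iff, kerS_gluedπ t s hcompat]

end glue

/-- Local freeness of given rank is local. -/
theorem rank_of_cover {σ : Type*} {U : σ → Scheme.{u}} (t : ∀ i, U i ⟶ T) [∀ i, IsOpenImmersion (t i)]
    (hcov : ∀ x : T, ∃ i y, t i y = x) {L : T.Modules} {r : ℕ}
    (h : ∀ i, FlatMod.IsFinLocFreeOfRank r ((Scheme.Modules.pullback (t i)).obj L)) :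
    FlatMod.IsFinLocFreeOfRank r L := by
  intro x
  obtain ⟨i, y, rfl⟩ := hcov x
  obtain ⟨W, hyW, ⟨φ⟩⟩ := h i y
  refine ⟨t i ''ᵁ W, ⟨y, hyW, rfl⟩, ⟨?_⟩⟩
  let e := (t i).isoImage W
  have he : e.inv ≫ W.ι ≫ t i = (t i ''ᵁ W).ι := by
    rw [← Scheme.Hom.isoImage_hom_ι]
    simp [e]
  exact (ParaFLib.restrictCongr he _).symm ≪≫ ParaFLib.restrictComp e.inv (W.ι ≫ t i) _ ≪≫
    (Scheme.Modules.restrictFunctor e.inv).mapIso (ParaFLib.restrictComp W.ι (t i) _ ≪≫
      (Scheme.Modules.restrictFunctor W.ι).mapIso ((Scheme.Modules.restrictFunctorIsoPullback (t i)).app L) ≪≫ φ) ≪≫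
    DCohLib.restrictFreeMod e.inv r

/-- Quotients given on the members of an open covering glue. -/
theorem exists_glued {σ : Type u} {U : σ → Scheme.{u}} (t : ∀ i, U i ⟶ T) [∀ i, IsOpenImmersion (t i)]
    (hcov : ∀ x : T, ∃ i y, t i y = x) {L : ∀ i, (U i).Modules}
    (s : ∀ i, (Scheme.Modules.pullback (t i)).obj M ⟶ L i) [∀ i, Epi (s i)] {r : ℕ}
    (hL : ∀ i, FlatMod.IsFinLocFreeOfRank r (L i))
    (hcompat : ∀ i k, kerS (qb (s i) (rfl : pullback.fst (t i) (t k) ≫ t i = pullback.fst (t i) (t k) ≫ t i)) =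
      kerS (qb (s k) (pullback.condition.symm : pullback.snd (t i) (t k) ≫ t k = pullback.fst (t i) (t k) ≫ t i))) :
    ∃ (L₀ : T.Modules) (s₀ : M ⟶ L₀), Epi s₀ ∧ FlatMod.IsFinLocFreeOfRank r L₀ ∧
      ∀ i, ∃ e : (Scheme.Modules.pullback (t i)).obj L₀ ≅ L i, (Scheme.Modules.pullback (t i)).map s₀ ≫ e.hom = s i := by
  refine ⟨_, gluedπ t s, inferInstanceAs (Epi (cokernel.π _)), rank_of_cover t hcov fun i => ?_,
    exists_iso_glued t s hcompat⟩
  obtain ⟨e, -⟩ := exists_iso_glued t s hcompat i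
  intro y
  obtain ⟨W, hyW, ⟨φ⟩⟩ := hL i y
  exact ⟨W, hyW, ⟨(Scheme.Modules.restrictFunctor W.ι).mapIso e ≪≫ φ⟩⟩

end Groth.Agent.GrassShLib
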