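import Groth.Agent.GrassShLib.Chart
import Groth.Prelude.Def_ExtPow2
import Mathlib.LinearAlgebra.Matrix.NonsingularInverse

/-!
# Coordinates of sections in a framed quotient, and their determinants
-/

set_option autoImplicit false
set_option backward.isDefEq.respectTransparency false
set_option linter.style.haveILetI false

universe u

open CategoryTheory CategoryTheory.Limits AlgebraicGeometry TopologicalSpace Opposite Grass
open Groth.Agent.PullbackMod Groth.Agent.FlagLib Groth.Agent.DegDevLib Groth.Agent.DCohLib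
open exteriorPower

noncomputable section

namespace Groth.Agent.GrassShLib

variable {X T T' : Scheme.{u}} {E : X.Modules} {r : ℕ} {g : T ⟶ X} (D : QData E r g) {f : Fin r → Γ(D.L, ⊤)}
  (hf : IsFrame ⊤ f) {V : X.Opens} (e : ⊤ ≤ g ⁻¹ᵁ V)

/-- Coordinates of the image of a section. -/
def coordsV (v : Γ(E, V)) : Fin r → Γ(T, ⊤) :=
  (LinearEquiv.ofBijective _ hf.bijective).symm (vecS D e v)

theorem sum_coordsV (v : Γ(E, V)) : ∑ k, coordsV D hf e v k • f k = vecS D e v := by
  have h := (LinearEquiv.ofBijective _ hf.bijective).apply_symm_apply (vecS D e v)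
  rw [LinearEquiv.ofBijective_apply, Fintype.linearCombination_apply] at h
  exact h

theorem coordsV_eq {v : Γ(E, V)} {c : Fin r → Γ(T, ⊤)} (h : ∑ k, c k • f k = vecS D e v) :
    coordsV D hf e v = c :=
  hf.bijective.1 (by simp only [Fintype.linearCombination_apply, sum_coordsV, h])

theorem coordsV_add (v w : Γ(E, V)) : coordsV D hf e (v + w) = coordsV D hf e v + coordsV D hf e w := by
  simp only [coordsV, vecS, map_add]

theorem coordsV_smul (a : Γ(X, V)) (v : Γ(E, V)) :
    coordsV D hf e (a • v) = g.appLE V ⊤ e a • coordsV D hf e v := by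
  have h : vecS D e (a • v) = g.appLE V ⊤ e a • vecS D e v := by
    simp only [vecS, pullMap_smul, Scheme.Modules.Hom.app_smul]
  rw [coordsV, h, map_smul]
  rfl

/-- The determinant of the coordinates. -/
def detV (v : Fin r → Γ(E, V)) : Γ(T, ⊤) := Matrix.det (Matrix.of fun k => coordsV D hf e (v k))

/-- The determinant of the coordinates, on the exterior power. -/
def detL : letI := (g.appLE V ⊤ e).hom.toAlgebra; ↥(⋀[Γ(X, V)]^r Γ(E, V)) →ₗ[Γ(X, V)] Γ(T, ⊤) :=
  letI := (g.appLE V ⊤ e).hom.toAlgebra
  alternatingMapLinearEquiv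
    { toFun := detV D hf e
      map_update_add' := fun {inst} v i x y => by
        obtain rfl : inst = instDecidableEqFin r := Subsingleton.elim _ _
        have h : ∀ w, (fun k => coordsV D hf e (Function.update v i w k)) =
            Function.update (fun k => coordsV D hf e (v k)) i (coordsV D hf e w) := fun w =>
          funext fun k => Function.apply_update (fun _ => coordsV D hf e) v i w k
        show Matrix.detRowAlternating _ = Matrix.detRowAlternating _ + Matrix.detRowAlternating _
        simp only [h, coordsV_add]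
        exact AlternatingMap.map_update_add _ _ _ _ _
      map_update_smul' := fun {inst} v i c x => by
        obtain rfl : inst = instDecidableEqFin r := Subsingleton.elim _ _
        have h : ∀ w, (fun k => coordsV D hf e (Function.update v i w k)) =
            Function.update (fun k => coordsV D hf e (v k)) i (coordsV D hf e w) := fun w =>
          funext fun k => Function.apply_update (fun _ => coordsV D hf e) v i w k
        show Matrix.detRowAlternating _ = g.appLE V ⊤ e c * Matrix.detRowAlternating _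
        simp only [h, coordsV_smul]
        exact AlternatingMap.map_update_smul _ _ _ _ _
      map_eq_zero_of_eq' := fun v i j h hij => Matrix.det_zero_of_row_eq hij (by
        show coordsV D hf e (v i) = coordsV D hf e (v j)
        rw [h]) }

theorem detL_ιMulti (v : Fin r → Γ(E, V)) : detL D hf e (ιMulti Γ(X, V) r v) = detV D hf e v :=
  letI := (g.appLE V ⊤ e).hom.toAlgebra
  alternatingMapLinearEquiv_apply_ιMulti _ v

theorem detV_frame {v : Fin r → Γ(E, V)} (h : ∀ k, vecS D e (v k) = f k) : detV D hf e v = 1 := by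
  classical
  have h1 : (fun k => coordsV D hf e (v k)) = fun k => Pi.single k 1 := funext fun k => coordsV_eq D hf e (by
    rw [h, Finset.sum_eq_single k]
    · rw [Pi.single_eq_same, one_smul]
    · intro b _ hb; rw [Pi.single_eq_of_ne hb, zero_smul]
    · exact fun h' => absurd (Finset.mem_univ _) h')
  rw [detV, show (Matrix.of fun k => coordsV D hf e (v k)) = 1 from Matrix.ext fun k l => by
    show coordsV D hf e (v k) l = _
    rw [congrFun h1 k, Matrix.one_apply, Pi.single_apply]
    simp only [eq_comm], Matrix.det_one]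

/-- A change of frame multiplies determinants by the determinant of the change. -/
theorem detV_change {f' : Fin r → Γ(D.L, ⊤)} (hf' : IsFrame ⊤ f') (A : Matrix (Fin r) (Fin r) Γ(T, ⊤))
    (hA : ∀ k, f k = ∑ l, A k l • f' l) (v : Fin r → Γ(E, V)) :
    detV D hf' e v = detV D hf e v * A.det := by
  rw [detV, detV, ← Matrix.det_mul]
  refine congrArg Matrix.det (Matrix.ext fun k l => ?_)
  show coordsV D hf' e (v k) l = _
  refine congrFun (coordsV_eq D hf' e (c := fun l => ∑ m, coordsV D hf e (v k) m * A m l) ?_) l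
  simp only [Finset.sum_smul, mul_smul]
  rw [Finset.sum_comm]
  simp only [← Finset.smul_sum, ← hA, sum_coordsV]

/-- Sections span a point exactly when their determinant is a unit there. -/
theorem spanAt_iff_isUnit_det (v : Fin r → Γ(E, V)) (x : T) :
    SpanAt (fun k => vecS D e (v k)) x trivial ↔
      IsUnit (T.presheaf.germ ⊤ x trivial (detV D hf e v)) := by
  classical
  let M : Matrix (Fin r) (Fin r) (T.presheaf.stalk x) :=
    (Matrix.of fun k => coordsV D hf e (v k)).map (T.presheaf.germ ⊤ x trivial).hom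
  have hdet : T.presheaf.germ ⊤ x trivial (detV D hf e v) = M.det := RingHom.map_det _ _
  let lf := Fintype.linearCombination (T.presheaf.stalk x) fun l => D.L.presheaf.germ ⊤ x trivial (f l)
  have hlc : ⇑(Fintype.linearCombination (T.presheaf.stalk x)
      fun k => D.L.presheaf.germ ⊤ x trivial (vecS D e (v k))) = lf ∘ fun c => Matrix.vecMul c M := by
    funext c
    simp only [Function.comp_apply, lf, Fintype.linearCombination_apply, Matrix.vecMul, dotProduct,
      Finset.sum_smul, mul_smul]
    rw [Finset.sum_comm]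
    refine Finset.sum_congr rfl fun k _ => ?_
    rw [← Finset.smul_sum, ← sum_coordsV D hf e (v k), map_sum]
    refine congrArg (c k • ·) (Finset.sum_congr rfl fun l _ => ?_)
    exact PresheafOfModules.germ_smul (R := T.presheaf) D.L.val x ⊤ trivial _ (f l)
  rw [spanAt_iff_surjective, hlc, Function.Surjective.of_comp_iff' (hf x trivial), hdet,
    ← Matrix.isUnit_iff_isUnit_det, ← Matrix.vecMul_surjective_iff_isUnit]

/-- Coordinates are carried along by maps carrying frame to frame. -/
theorem coordsV_map {g' : T ⟶ X} (D' : QData E r g') {f' : Fin r → Γ(D'.L, ⊤)} (hf' : IsFrame ⊤ f')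
    (η : D.L ⟶ D'.L) (hη : ∀ k, η.app ⊤ (f k) = f' k) (e' : ⊤ ≤ g' ⁻¹ᵁ V) (v : Γ(E, V))
    (hv : η.app ⊤ (vecS D e v) = vecS D' e' v) : coordsV D' hf' e' v = coordsV D hf e v := by
  refine coordsV_eq D' hf' e' ?_
  rw [← hv, ← sum_coordsV D hf e v, map_sum]
  simp only [Scheme.Modules.Hom.app_smul, hη]

/-- Coordinates and base change. -/
theorem coordsV_bc {g' : T' ⟶ X} (h : T' ⟶ T) (hg : h ≫ g = g') {fh : Fin r → Γ((D.bc h hg).L, ⊤)}
    (hfh : IsFrame ⊤ fh) (hfh' : ∀ k, fh k = pullMap h D.L (le_refl (⊤ : T'.Opens)) (f k))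
    {V' : X.Opens} (hV : V' ≤ V) (e' : ⊤ ≤ g' ⁻¹ᵁ V') (v : Γ(E, V)) :
    coordsV (D.bc h hg) hfh e' (E.presheaf.map (homOfLE hV).op v) =
      fun k => h.appTop (coordsV D hf e v k) := by
  refine coordsV_eq (D.bc h hg) hfh e' ?_
  have e'' : ⊤ ≤ g' ⁻¹ᵁ V := e'.trans (g'.preimage_mono hV)
  have h1 : vecS (D.bc h hg) e' (E.presheaf.map (homOfLE hV).op v) = vecS (D.bc h hg) e'' v := by
    show (D.bc h hg).s.app ⊤ _ = (D.bc h hg).s.app ⊤ _
    refine congrArg _ ((pullMap_res g' E e'' hV le_rfl e' v).symm.trans ?_)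
    exact Groth.Agent.CohBase.restr_self _ _ _
  rw [h1, vecS_bc_top D h hg e e'', ← sum_coordsV D hf e v, map_sum]
  refine Finset.sum_congr rfl fun k _ => ?_
  rw [pullMap_smul, hfh']
  simp [Scheme.Hom.appLE]

theorem detV_bc {g' : T' ⟶ X} (h : T' ⟶ T) (hg : h ≫ g = g') {fh : Fin r → Γ((D.bc h hg).L, ⊤)}
    (hfh : IsFrame ⊤ fh) (hfh' : ∀ k, fh k = pullMap h D.L (le_refl (⊤ : T'.Opens)) (f k))
    {V' : X.Opens} (hV : V' ≤ V) (e' : ⊤ ≤ g' ⁻¹ᵁ V') (v : Fin r → Γ(E, V)) :
    detV (D.bc h hg) hfh e' (fun k => E.presheaf.map (homOfLE hV).op (v k)) = h.appTop (detV D hf e v) := by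
  rw [detV, detV]
  refine Eq.trans ?_ (RingHom.map_det _ _).symm
  refine congrArg Matrix.det (Matrix.ext fun k l => ?_)
  exact congrFun (coordsV_bc D hf e h hg hfh hfh' hV e' (v k)) l

/-! ### Sections of an exterior power -/

variable {L : X.Modules} (hL : ExtPow.IsExtPow r E L)

/-- The wedge of sections over an affine open. -/
def wdg {U : X.Opens} (hU : IsAffineOpen U) (v : Fin r → Γ(E, U)) : Γ(L, U) :=
  (hL.choose ⟨U, hU⟩).symm (ιMulti Γ(X, U) r v)

theorem wdg_res {U U' : X.Opens} (hU : IsAffineOpen U) (hU' : IsAffineOpen U') (h : U' ≤ U) (v : Fin r → Γ(E, U)) :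
    L.presheaf.map (homOfLE h).op (wdg hL hU v) = wdg hL hU' fun k => E.presheaf.map (homOfLE h).op (v k) :=
  hL.choose_spec ⟨U, hU⟩ ⟨U', hU'⟩ h v

theorem span_wdg {U : X.Opens} (hU : IsAffineOpen U) {n : ℕ} {σ : Fin n → Γ(E, U)}
    (hσ : Submodule.span Γ(X, U) (Set.range σ) = ⊤) :
    Submodule.span Γ(X, U) (Set.range fun J : Fin r → Fin n => wdg hL hU (σ ∘ J)) = ⊤ := by
  let φ := hL.choose ⟨U, hU⟩
  have h1 : Submodule.span Γ(X, U) (Set.range fun J : Fin r → Fin n => ιMulti Γ(X, U) r (σ ∘ J)) = ⊤ := by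
    rw [eq_top_iff, ← ιMulti_span_of_span Γ(X, U) r (M := Γ(E, U)) (s := Set.range σ) hσ, Submodule.span_le]
    rintro _ ⟨w, hw, rfl⟩
    choose J hJ using fun k => hw ⟨k, rfl⟩
    exact Submodule.subset_span ⟨J, congrArg (ιMulti Γ(X, U) r) (funext hJ)⟩
  have h2 := congrArg (Submodule.map φ.symm.toLinearMap) h1
  rw [Submodule.map_span, Submodule.map_top, LinearEquiv.range, ← Set.range_comp] at h2
  exact h2

end Groth.Agent.GrassShLib
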