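import Groth.Agent.GrassShLib.Kernel

/-!
# The Grassmannian functor of a module as a Zariski sheaf
-/

set_option autoImplicit false
set_option backward.isDefEq.respectTransparency false
set_option linter.style.haveILetI false

universe u

open CategoryTheory CategoryTheory.Limits AlgebraicGeometry TopologicalSpace Opposite Grass
open Groth.Agent.PullbackMod Groth.Agent.FlagLib

noncomputable section

namespace Groth.Agent.GrassShLib

variable {X : Scheme.{u}} (E : X.Modules) (r : ℕ)

/-- A rank `r` quotient of an inverse image of `E`. -/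
structure QData {T : Scheme.{u}} (g : T ⟶ X) where
  /-- the quotient -/
  L : T.Modules
  /-- the map -/
  s : (Scheme.Modules.pullback g).obj E ⟶ L
  rank : FlatMod.IsFinLocFreeOfRank r L
  epi : Epi s

variable {E r}

/-- Base change of a quotient. -/
def QData.bc {T T' : Scheme.{u}} {g : T ⟶ X} {g' : T' ⟶ X} (D : QData E r g) (h : T' ⟶ T) (hg : h ≫ g = g') :
    QData E r g' where
  L := (Scheme.Modules.pullback h).obj D.L
  s := qb D.s hg
  rank := rank_pullback h D.L D.rank
  epi := haveI := D.epi; epi_qb D.s hg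

theorem QData.bc_congr {T T' : Scheme.{u}} {g : T ⟶ X} {g' : T' ⟶ X} {D D' : QData E r g}
    (e : kerS D.s = kerS D'.s) (h : T' ⟶ T) (hg : h ≫ g = g') : kerS (D.bc h hg).s = kerS (D'.bc h hg).s := by
  haveI := D.epi
  haveI := D'.epi
  obtain ⟨ε, hε⟩ := exists_iso_of_kerS_eq D.s D'.s e
  show kerS (qb D.s hg) = kerS (qb D'.s hg)
  rw [← hε, ← qb_comp D.s hg ε.hom]
  exact (kerS_comp_iso _ ((Scheme.Modules.pullback h).mapIso ε)).symm

theorem QData.bc_id {T : Scheme.{u}} {g : T ⟶ X} (D : QData E r g) :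
    kerS (D.bc (𝟙 T) (Category.id_comp g)).s = kerS D.s := by
  show kerS (qb D.s (Category.id_comp g)) = kerS D.s
  have key : qb D.s (Category.id_comp g) ≫ (Scheme.Modules.pullbackId T).hom.app D.L = D.s := by
    simp only [qb, quotBC, Category.assoc]
    have h := congrArg (fun n => NatTrans.app n E) (Scheme.Modules.pseudofunctor_right_unitality (f := g))
    simp only [NatTrans.comp_app, Functor.whiskerLeft_app, Functor.rightUnitor_hom_app, Category.comp_id,
      eqToHom_app] at h
    have hn := (Scheme.Modules.pullbackId T).hom.naturality D.s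
    erw [hn, reassoc_of% h]
    simp [Scheme.Modules.pullbackCongr]
  conv_rhs => rw [← key]
  exact (kerS_comp_iso _ ((Scheme.Modules.pullbackId T).app D.L)).symm

theorem QData.bc_bc {T T' T'' : Scheme.{u}} {g : T ⟶ X} {g' : T' ⟶ X} {g'' : T'' ⟶ X} (D : QData E r g)
    (h : T' ⟶ T) (hg : h ≫ g = g') (h' : T'' ⟶ T') (hg' : h' ≫ g' = g'') :
    kerS ((D.bc h hg).bc h' hg').s =
      kerS (D.bc (h' ≫ h) (by rw [Category.assoc, hg, hg'])).s := by
  have key := qb_qb D.s hg (rfl : h' ≫ h = h' ≫ h) hg' (show (h' ≫ h) ≫ g = g'' by rw [Category.assoc, hg, hg'])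
    (𝟙 ((Scheme.Modules.pullback h).obj D.L))
  rw [Category.comp_id] at key
  show kerS (qb (qb D.s hg) hg') = kerS (qb D.s _)
  rw [key, qb_rfl, (Scheme.Modules.pullback h').map_id]
  erw [Category.comp_id]
  exact kerS_comp_iso _ ((Scheme.Modules.pullbackComp h' h).app D.L).symm

variable (E r)

/-- Isomorphism classes of rank `r` quotients, given by their kernels. -/
def RQ {T : Scheme.{u}} (g : T ⟶ X) : Type u :=
  {N : SubLib.StalkSub ((Scheme.Modules.pullback g).obj E) // ∃ D : QData E r g, kerS D.s = N}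

variable {E r}

/-- The class of a quotient. -/
def QData.cls {T : Scheme.{u}} {g : T ⟶ X} (D : QData E r g) : RQ E r g := ⟨kerS D.s, D, rfl⟩

theorem RQ.exists_cls {T : Scheme.{u}} {g : T ⟶ X} (N : RQ E r g) : ∃ D : QData E r g, D.cls = N :=
  let ⟨D, hD⟩ := N.2
  ⟨D, Subtype.ext hD⟩

/-- A representative. -/
def RQ.rep {T : Scheme.{u}} {g : T ⟶ X} (N : RQ E r g) : QData E r g := N.exists_cls.choose

theorem RQ.cls_rep {T : Scheme.{u}} {g : T ⟶ X} (N : RQ E r g) : N.rep.cls = N := N.exists_cls.choose_spec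

/-- Base change of classes. -/
def RQ.bc {T T' : Scheme.{u}} {g : T ⟶ X} {g' : T' ⟶ X} (N : RQ E r g) (h : T' ⟶ T) (hg : h ≫ g = g') :
    RQ E r g' := (N.rep.bc h hg).cls

theorem QData.bc_cls {T T' : Scheme.{u}} {g : T ⟶ X} {g' : T' ⟶ X} (D : QData E r g) (h : T' ⟶ T)
    (hg : h ≫ g = g') : D.cls.bc h hg = (D.bc h hg).cls :=
  Subtype.ext (QData.bc_congr (congrArg Subtype.val D.cls.cls_rep) h hg)

theorem RQ.bc_bc {T T' T'' : Scheme.{u}} {g : T ⟶ X} {g' : T' ⟶ X} {g'' : T'' ⟶ X} (N : RQ E r g)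
    (h : T' ⟶ T) (hg : h ≫ g = g') (h' : T'' ⟶ T') (hg' : h' ≫ g' = g'') :
    (N.bc h hg).bc h' hg' = N.bc (h' ≫ h) (by rw [Category.assoc, hg, hg']) := by
  obtain ⟨D, rfl⟩ := N.exists_cls
  rw [D.bc_cls, (D.bc h hg).bc_cls, D.bc_cls]
  exact Subtype.ext (D.bc_bc h hg h' hg')

theorem RQ.bc_id {T : Scheme.{u}} {g : T ⟶ X} (N : RQ E r g) : N.bc (𝟙 T) (Category.id_comp g) = N := by
  obtain ⟨D, rfl⟩ := N.exists_cls
  rw [D.bc_cls]
  exact Subtype.ext D.bc_id

variable (E r)

/-- The Grassmannian functor. -/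
def grassFun : (Over X)ᵒᵖ ⥤ Type u where
  obj T := RQ E r T.unop.hom
  map g := TypeCat.ofHom fun N => RQ.bc N g.unop.left (Over.w g.unop)
  map_id T := ConcreteCategory.hom_ext _ _ fun N => RQ.bc_id N
  map_comp g g' := ConcreteCategory.hom_ext _ _ fun N =>
    (RQ.bc_bc N g.unop.left (Over.w g.unop) g'.unop.left (Over.w g'.unop)).symm

theorem grassFun_map {T T' : Over X} (g : T' ⟶ T) (N : RQ E r T.hom) :
    ((grassFun E r).map g.op N : RQ E r T'.hom) = N.bc g.left (Over.w g) := rfl

variable {σ : Type u} {T : Over X} {U : σ → Over X} (t : ∀ i, U i ⟶ T) [∀ i, IsOpenImmersion (t i).left]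

theorem separated (hcov : ∀ x : T.left, ∃ i y, (t i).left y = x) {N N' : RQ E r T.hom}
    (h : ∀ i, N.bc (t i).left (Over.w (t i)) = N'.bc (t i).left (Over.w (t i))) : N = N' := by
  suffices key : ∀ D D' : QData E r T.hom,
      (∀ i, D.cls.bc (t i).left (Over.w (t i)) = D'.cls.bc (t i).left (Over.w (t i))) →
        ∀ x, kerS D.s x ≤ kerS D'.s x by
    obtain ⟨D, rfl⟩ := N.exists_cls
    obtain ⟨D', rfl⟩ := N'.exists_cls
    exact Subtype.ext (funext fun x => le_antisymm (key D D' h x) (key D' D (fun i => (h i).symm) x))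
  intro D D' hD x z hz
  haveI := D.epi
  haveI := D'.epi
  have h0 : kernel.ι D.s ≫ D'.s = 0 := by
    refine eq_zero_of_cover (fun i => (t i).left) hcov _ fun i => ?_
    have hi := congrArg Subtype.val (hD i)
    rw [D.bc_cls, D'.bc_cls] at hi
    haveI := (D.bc (t i).left (Over.w (t i))).epi
    haveI := (D'.bc (t i).left (Over.w (t i))).epi
    obtain ⟨ε, hε⟩ := exists_iso_of_kerS_eq (D.bc (t i).left (Over.w (t i))).s (D'.bc (t i).left (Over.w (t i))).s hi
    change qb D.s _ ≫ ε.hom = qb D'.s _ at hε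
    simp only [qb, quotBC, Category.assoc, cancel_epi] at hε
    rw [Functor.map_comp, ← hε, ← Category.assoc, ← Functor.map_comp, kernel.condition]
    haveI : (Scheme.Modules.pullback (t i).left).IsLeftAdjoint :=
      (Scheme.Modules.pullbackPushforwardAdjunction _).isLeftAdjoint
    rw [Functor.map_zero, zero_comp]
  obtain ⟨w, rfl⟩ : ∃ w, stalkLin (kernel.ι D.s) x w = z := by
    let S := ShortComplex.mk (kernel.ι D.s) D.s (kernel.condition _)
    haveI : Epi S.g := D.epi
    exact (DCohLib.exact_stalkLin S (ShortComplex.exact_of_f_is_kernel _ (kernelIsKernel _)) x z).1 hz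
  rw [mem_kerS, ← LinearMap.comp_apply, ← stalkLin_comp, (eq_zero_iff_stalk _).1 h0 x, LinearMap.zero_apply]

theorem glue (hcov : ∀ x : T.left, ∃ i y, (t i).left y = x) (N : ∀ i, RQ E r (U i).hom)
    (hN : ∀ (i k : σ) (W : Over X) (a : W ⟶ U i) (b : W ⟶ U k), a ≫ t i = b ≫ t k →
      (N i).bc a.left (Over.w a) = (N k).bc b.left (Over.w b)) :
    ∃ J : RQ E r T.hom, ∀ i, J.bc (t i).left (Over.w (t i)) = N i := by
  let M := (Scheme.Modules.pullback T.hom).obj E
  let c := fun i => qb (𝟙 M) (Over.w (t i))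
  haveI : ∀ i, IsIso (c i) := fun i => by
    simp only [c, qb, quotBC, CategoryTheory.Functor.map_id]
    infer_instance
  let s := fun i => inv (c i) ≫ (N i).rep.s
  haveI : ∀ i, Epi (s i) := fun i => haveI := (N i).rep.epi; epi_comp _ _
  have hcs : ∀ i, (N i).rep.s = c i ≫ s i := fun i => (IsIso.hom_inv_id_assoc _ _).symm
  have hcompat : ∀ i k,
      kerS (qb (s i) (rfl : pullback.fst (t i).left (t k).left ≫ (t i).left = pullback.fst (t i).left (t k).left ≫ (t i).left)) =
        kerS (qb (s k) (pullback.condition.symm :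
          pullback.snd (t i).left (t k).left ≫ (t k).left = pullback.fst (t i).left (t k).left ≫ (t i).left)) := by
    intro i k
    let W : Over X := Over.mk (pullback.fst (t i).left (t k).left ≫ (U i).hom)
    let a : W ⟶ U i := Over.homMk (pullback.fst _ _) rfl
    let b : W ⟶ U k := Over.homMk (pullback.snd _ _) (by
      show pullback.snd _ _ ≫ (U k).hom = pullback.fst _ _ ≫ (U i).hom
      rw [← Over.w (t i), ← Over.w (t k), ← pullback.condition_assoc])
    have hW : (pullback.fst (t i).left (t k).left ≫ (t i).left) ≫ T.hom = W.hom := by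
      rw [Category.assoc, Over.w (t i)]
      rfl
    have h := congrArg Subtype.val (hN i k W a b (Over.OverMorphism.ext pullback.condition))
    rw [← (N i).cls_rep, ← (N k).cls_rep, QData.bc_cls, QData.bc_cls] at h
    change kerS (qb (N i).rep.s _) = kerS (qb (N k).rep.s _) at h
    rw [hcs i, hcs k, qb_qb (𝟙 M) (Over.w (t i)) (rfl : a.left ≫ (t i).left = _) (Over.w a) hW (s i),
      qb_qb (𝟙 M) (Over.w (t k)) (pullback.condition.symm : b.left ≫ (t k).left = _) (Over.w b) hW (s k)] at h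
    let q0 := qb (𝟙 M) hW
    haveI : IsIso q0 := by
      simp only [q0, qb, quotBC, CategoryTheory.Functor.map_id]
      infer_instance
    funext w
    refine SetLike.ext fun z => ?_
    obtain ⟨z', rfl⟩ := ((epi_iff_stalk q0).1 inferInstance w) z
    have hw := SetLike.ext_iff.1 (congrFun h w) z'
    rw [mem_kerS, mem_kerS, stalkLin_comp, stalkLin_comp] at hw
    exact hw
  obtain ⟨L₀, s₀, hs₀, hL₀, he⟩ := exists_glued (M := M) (fun i => (t i).left) hcov s (fun i => (N i).rep.rank) hcompat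
  refine ⟨QData.cls ⟨L₀, s₀, hL₀, hs₀⟩, fun i => ?_⟩
  obtain ⟨e, he⟩ := he i
  rw [QData.bc_cls, ← (N i).cls_rep]
  refine Subtype.ext ?_
  show kerS (qb s₀ (Over.w (t i))) = kerS (N i).rep.s
  have h2 : (N i).rep.s = qb s₀ (Over.w (t i)) ≫ e.hom := by
    have h3 : qb s₀ (Over.w (t i)) = c i ≫ (Scheme.Modules.pullback (t i).left).map s₀ := by
      simp only [c, qb, quotBC, Category.assoc]
      erw [(Scheme.Modules.pullback (t i).left).map_id M, Category.id_comp]
    rw [h3, Category.assoc, he, hcs i]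
  rw [h2]
  exact (kerS_comp_iso _ e).symm

omit t [∀ i, IsOpenImmersion (t i).left] in
theorem isSheaf_grassFun : Presheaf.IsSheaf (Scheme.zariskiTopology.over X) (grassFun E r) := by
  rw [isSheaf_iff_isSheaf_of_type]
  intro T R hR x hx
  rw [GrothendieckTopology.mem_over_iff] at hR
  obtain ⟨𝒰, h𝒰⟩ := Scheme.exists_cover_of_mem_grothendieckTopology hR
  let U : 𝒰.I₀ → Over X := fun i => Over.mk (𝒰.f i ≫ T.hom)
  let t : ∀ i, U i ⟶ T := fun i => Over.homMk (𝒰.f i) rfl
  haveI : ∀ i, IsOpenImmersion (t i).left := fun i => 𝒰.map_prop i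
  have hcov : ∀ z : T.left, ∃ i y, (t i).left y = z := fun z => ⟨𝒰.idx z, 𝒰.covers z⟩
  have hRt : ∀ i, R (t i) := fun i => (Sieve.overEquiv_iff R (𝒰.f i)).mp (h𝒰 _ _ (Presieve.ofArrows.mk i))
  obtain ⟨J, hJ⟩ := glue E r t hcov (fun i => x (t i) (hRt i))
    (fun i k W a b e => hx a b (hRt i) (hRt k) e)
  refine ⟨J, fun Y g hg => ?_, fun J' hJ' => ?_⟩
  · let V : 𝒰.I₀ → Over X := fun i => Over.mk (pullback.fst g.left (𝒰.f i) ≫ Y.hom)
    let v : ∀ i, V i ⟶ Y := fun i => Over.homMk (pullback.fst g.left (𝒰.f i)) rfl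
    haveI : ∀ i, IsOpenImmersion (v i).left := fun i => inferInstanceAs (IsOpenImmersion (pullback.fst g.left (𝒰.f i)))
    let w : ∀ i, V i ⟶ U i := fun i => Over.homMk (pullback.snd g.left (𝒰.f i)) (by
      show _ ≫ 𝒰.f i ≫ T.hom = _ ≫ Y.hom
      rw [← pullback.condition_assoc, Over.w g])
    have hsq : ∀ i, v i ≫ g = w i ≫ t i := fun i => Over.OverMorphism.ext pullback.condition
    have hcv : ∀ y : Y.left, ∃ i p, (v i).left p = y := fun y => by
      obtain ⟨i, z, hz⟩ := hcov (g.left y)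
      obtain ⟨p, hp, -⟩ := Scheme.exists_preimage_of_isPullback (IsPullback.of_hasPullback g.left (𝒰.f i)) y z hz.symm
      exact ⟨i, p, hp⟩
    refine separated E r v hcv fun i => ?_
    show (grassFun E r).map (v i).op ((grassFun E r).map g.op J) = _
    rw [← ConcreteCategory.comp_apply, ← Functor.map_comp, ← op_comp, hsq, op_comp, Functor.map_comp,
      ConcreteCategory.comp_apply]
    exact (congrArg _ (hJ i)).trans (hx (w i) (v i) (hRt i) hg (hsq i).symm)
  · refine separated E r t hcov fun i => ?_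
    rw [hJ]
    exact hJ' (t i) (hRt i)

end Groth.Agent.GrassShLib
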