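import Groth.Agent.GrassShLib.PlueckerChart
import Groth.Agent.GrassShLib.FreeChart

/-!
# The Plücker morphism is a closed immersion
-/

set_option autoImplicit false
set_option backward.isDefEq.respectTransparency false
set_option linter.style.haveILetI false

universe u

open CategoryTheory CategoryTheory.Limits AlgebraicGeometry TopologicalSpace Opposite Grass
open Groth.Agent.PullbackMod Groth.Agent.FlagLib Groth.Agent.DegDevLib Groth.Agent.GrassRepLib
open exteriorPower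

noncomputable section

namespace Groth.Agent.GrassShLib

variable {X : Scheme.{u}} {E : X.Modules} {r : ℕ}

/-- Morphisms to a chart are given by normal coordinates satisfying the relations. -/
theorem Idx.exists_hom_coord (i : Idx E r) {S : Over X} (e : ⊤ ≤ S.hom ⁻¹ᵁ i.U)
    (c : Fin i.n → Fin r → Γ(S.left, ⊤)) (hnorm : Normal i.I c)
    (hrel : ∀ ρ : Fin i.n → Γ(X, i.U), ∑ j, ρ j • i.σ j = 0 →
      ∀ k, ∑ j, S.hom.appLE i.U ⊤ e (ρ j) * c j k = 0) :
    ∃ a : S ⟶ i.Z, ∀ j k, a.left.appTop (i.coord j k) = c j k := by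
  classical
  let φP : i.P →+* Γ(S.left, ⊤) :=
    MvPolynomial.eval₂Hom (S.hom.appLE i.U ⊤ e).hom fun p => c p.2.1 p.1
  have hφ : ∀ j k, φP (colOf i.I MvPolynomial.X j k) = c j k := fun j k => by
    rw [colOf_ringHom]
    simp only [φP, MvPolynomial.eval₂Hom_X']
    exact congrFun (congrFun (colOf_of_normal i.I hnorm) j) k
  have hJ : ∀ p ∈ i.J, φP p = 0 := by
    suffices i.J ≤ RingHom.ker φP from fun p hp => this hp
    refine Ideal.span_le.2 ?_
    rintro _ ⟨⟨⟨ρ, hρ⟩, k⟩, rfl⟩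
    show φP _ = 0
    simp only [map_sum, map_mul, hφ]
    simp only [φP, MvPolynomial.eval₂Hom_C]
    exact hrel ρ hρ k
  let φ : CommRingCat.of i.A ⟶ Γ(S.left, ⊤) := CommRingCat.ofHom (Ideal.Quotient.lift i.J φP hJ)
  have hw : (S.left.toSpecΓ ≫ Spec.map φ) ≫ i.Z.hom = S.hom := by
    show (S.left.toSpecΓ ≫ Spec.map φ) ≫ Spec.map _ ≫ i.hU.fromSpec = _
    rw [Category.assoc, ← Category.assoc (Spec.map φ), ← Spec.map_comp]
    convert toSpecΓ_appLE_fromSpec i.hU S.hom e using 4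
    refine CommRingCat.hom_ext (RingHom.ext fun x => ?_)
    show Ideal.Quotient.lift i.J φP hJ (Ideal.Quotient.mk i.J (MvPolynomial.C x)) = _
    rw [Ideal.Quotient.lift_mk]
    exact MvPolynomial.eval₂Hom_C _ _ _
  refine ⟨Over.homMk (S.left.toSpecΓ ≫ Spec.map φ) hw, fun j k => ?_⟩
  show (Scheme.Hom.appTop (S.left.toSpecΓ ≫ Spec.map φ))
    ((Scheme.ΓSpecIso (.of i.A)).inv (Ideal.Quotient.mk i.J _)) = _
  rw [Scheme.Hom.comp_appTop, ← ConcreteCategory.comp_apply, ← Category.assoc, ← Scheme.ΓSpecIso_inv_naturality,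
    Category.assoc, Scheme.toSpecΓ_appTop, Iso.inv_hom_id, Category.comp_id]
  exact (Ideal.Quotient.lift_mk _ _ _).trans (hφ j k)

theorem vecS_res {T : Scheme.{u}} {g : T ⟶ X} (D : QData E r g) {U V : X.Opens} (h : V ≤ U) {W : T.Opens}
    (e : W ≤ g ⁻¹ᵁ V) (e' : W ≤ g ⁻¹ᵁ U) (v : Γ(E, U)) :
    vecS D e (E.presheaf.map (homOfLE h).op v) = vecS D e' v := by
  show D.s.app W _ = D.s.app W _
  refine congrArg _ ((pullMap_res g E e' h le_rfl e v).symm.trans ?_)
  exact Groth.Agent.CohBase.restr_self _ _ _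

theorem detV_update {T : Scheme.{u}} {g : T ⟶ X} (D : QData E r g) {f : Fin r → Γ(D.L, ⊤)} (hf : IsFrame ⊤ f)
    {V : X.Opens} (e : ⊤ ≤ g ⁻¹ᵁ V) {v : Fin r → Γ(E, V)} (hv : ∀ k, vecS D e (v k) = f k) (k : Fin r)
    (w : Γ(E, V)) : detV D hf e (Function.update v k w) = coordsV D hf e w k := by
  classical
  have h1 : (Matrix.of fun l => coordsV D hf e (Function.update v k w l)) =
      (1 : Matrix (Fin r) (Fin r) Γ(T, ⊤)).updateRow k
        (∑ m, coordsV D hf e w m • (1 : Matrix (Fin r) (Fin r) Γ(T, ⊤)) m) := by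
    refine Matrix.ext fun l m => ?_
    simp only [Matrix.of_apply]
    rcases eq_or_ne l k with rfl | hl
    · rw [Function.update_self, Matrix.updateRow_self, Finset.sum_apply]
      simp [Matrix.one_apply, eq_comm]
    · rw [Function.update_of_ne hl, Matrix.updateRow_ne hl]
      refine congrFun (coordsV_eq D hf e (c := fun m => (1 : Matrix (Fin r) (Fin r) Γ(T, ⊤)) l m) ?_) m
      rw [hv, Finset.sum_eq_single l]
      · simp
      · intro b _ hb; simp [Matrix.one_apply_ne (Ne.symm hb)]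
      · exact fun h => absurd (Finset.mem_univ _) h
  rw [detV, h1, Matrix.det_updateRow_sum, Matrix.det_one]
  simp

/-- Transport of spanning along base change. -/
theorem spanAt_transfer {T T' : Scheme.{u}} {g : T ⟶ X} {g' : T' ⟶ X} (D : QData E r g) (D' : QData E r g')
    (h : T' ⟶ T) (hg : h ≫ g = g') (hcls : D.cls.bc h hg = D'.cls) {U V : X.Opens} (hVU : V ≤ U)
    (e' : ⊤ ≤ g' ⁻¹ᵁ V) {n : ℕ} (v : Fin n → Γ(E, U)) (w : T') (hw : h w ∈ g ⁻¹ᵁ U) :
    SpanAt (fun k => vecS D (W := g ⁻¹ᵁ U) le_rfl (v k)) (h w) hw ↔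
      SpanAt (fun k => vecS D' e' (E.presheaf.map (homOfLE hVU).op (v k))) w trivial := by
  have eU : ⊤ ≤ g' ⁻¹ᵁ U := e'.trans (g'.preimage_mono hVU)
  have hW : ⊤ ≤ h ⁻¹ᵁ (g ⁻¹ᵁ U) := fun y _ => by
    show g (h y) ∈ U
    rw [← Scheme.Hom.comp_apply, hg]
    exact eU trivial
  rw [QData.bc_cls] at hcls
  haveI := (D.bc h hg).epi
  haveI := D'.epi
  obtain ⟨ε, hε⟩ := exists_iso_of_kerS_eq (D.bc h hg).s D'.s (congrArg Subtype.val hcls)
  simp only [vecS_res D' hVU e' eU]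
  refine (spanAt_pullMap_iff h D.rank hW (y := w) trivial).symm.trans ?_
  simp only [← vecS_bc D h hg le_rfl eU hW]
  constructor
  · intro h1
    have h2 := h1.map ε.hom
    simp only [vecS_iso ε hε] at h2
    exact h2
  · intro h1
    have h2 := h1.map ε.inv
    have h3 : ∀ k, ε.inv.app ⊤ (vecS D' eU (v k)) = vecS (D.bc h hg) eU (v k) := fun k =>
      vecS_iso ε.symm (by rw [← hε]; exact (Category.assoc _ _ _).trans (by simp)) eU (v k)
    simp only [h3] at h2
    exact h2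

theorem not_spanAt_zero {T : Scheme.{u}} {M : T.Modules} (hM : FlatMod.IsFinLocFreeOfRank 1 M) {W : T.Opens}
    {v : Fin 1 → Γ(M, W)} (hv : v 0 = 0) (x : T) (hx : x ∈ W) : ¬ SpanAt v x hx := fun h => by
  have h1 := (bijective_of_spanAt hM h).1 (a₁ := fun _ => 1) (a₂ := 0) (by
    simp [Fintype.linearCombination_apply, hv])
  exact one_ne_zero (congrFun h1 0)

variable {L : X.Modules} {G P : Scheme.{u}} {π : G ⟶ X} {Q : G.Modules}
  {q : (Scheme.Modules.pullback π).obj E ⟶ Q} (hG : IsGrass π E r Q q) (hE : CohB1.IsFT E)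
  [Coh.IsQCoh E] [Coh.IsQCoh L] (hL : ExtPow.IsExtPow r E L)
  {p : P ⟶ X} {O1 : P.Modules} {qP : (Scheme.Modules.pullback p).obj L ⟶ O1} (hP : IsGrass p L 1 O1 qP)

include hG hE in
theorem exists_plClass : ∃ N : RQ L 1 π,
    ∀ i : Idx E r, N.bc (chartMap hG i) (chartMap_comp hG i) = (plD hL i).cls := by
  let t : ∀ i : Idx E r, i.Z ⟶ Over.mk π := fun i => Over.homMk (chartMap hG i) (chartMap_comp hG i)
  haveI : ∀ i, IsOpenImmersion (t i).left := fun i => isOpenImmersion_chartMap hG i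
  obtain ⟨N, hN⟩ := glue L 1 t (fun x => by
      obtain ⟨i, hi⟩ := exists_mem_chartOpen hG hE x
      have h : x ∈ Set.range (chartMap hG i) := by rw [range_chartMap]; exact hi
      exact ⟨i, h⟩) (fun i => (plD hL i).cls) (fun i k W a b hab => plD_compat hL i k a b (by
      refine (congrArg (fun N => RQ.bc N a.left (Over.w a)) (bc_clsMap hG i.univD).symm).trans ?_
      refine Eq.trans ?_ (congrArg (fun N => RQ.bc N b.left (Over.w b)) (bc_clsMap hG k.univD))
      refine (RQ.bc_bc _ _ _ _ _).trans (Eq.trans ?_ (RQ.bc_bc _ _ _ _ _).symm)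
      congr 1
      exact congrArg CommaMorphism.left hab))
  exact ⟨N, hN⟩

/-- The Plücker morphism. -/
def plMap : G ⟶ P := clsMap hP (exists_plClass hG hE hL).choose.rep

theorem plMap_comp : plMap hG hE hL hP ≫ p = π := clsMap_comp hP _

theorem bc_chartMap_plMap (i : Idx E r) :
    RQ.bc (QData.cls (⟨O1, qP, hP.rank, hP.epi⟩ : QData L 1 p)) (chartMap hG i ≫ plMap hG hE hL hP)
      (by rw [Category.assoc, plMap_comp, chartMap_comp]) = (plD hL i).cls := by
  have hh : RQ.bc (QData.cls (⟨O1, qP, hP.rank, hP.epi⟩ : QData L 1 p)) (plMap hG hE hL hP)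
      (plMap_comp hG hE hL hP) = (exists_plClass hG hE hL).choose :=
    (bc_clsMap hP _).trans (RQ.cls_rep _)
  refine Eq.trans ?_ ((congrArg (fun N => RQ.bc N (chartMap hG i) (chartMap_comp hG i)) hh).trans
    ((exists_plClass hG hE hL).choose_spec i))
  exact (RQ.bc_bc _ _ _ _ _).symm

/-- The affine part of the projective bundle on which a wedge of generators is a generator. -/
def plOpen (i : Idx E r) : P.Opens :=
  spanLocus hP.rank fun _ : Fin 1 =>
    vecS (⟨O1, qP, hP.rank, hP.epi⟩ : QData L 1 p) (W := p ⁻¹ᵁ i.U) le_rfl (wdg hL i.hU fun k => i.σ (i.I k))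

set_option maxHeartbeats 1600000 in
theorem preimage_plOpen (i : Idx E r) : plMap hG hE hL hP ⁻¹ᵁ plOpen hL hP i = chartOpen hG i := by
  ext x
  let D : QData E r π := ⟨Q, q, hG.rank, hG.epi⟩
  let DP : QData L 1 p := ⟨O1, qP, hP.rank, hP.epi⟩
  have hpx : p (plMap hG hE hL hP x) = π x := by rw [← Scheme.Hom.comp_apply, plMap_comp]
  suffices key : ∀ hx : π x ∈ i.U,
      SpanAt (fun _ : Fin 1 => vecS DP (W := p ⁻¹ᵁ i.U) le_rfl (wdg hL i.hU fun k => i.σ (i.I k)))
          (plMap hG hE hL hP x) (show p (plMap hG hE hL hP x) ∈ i.U from hpx ▸ hx) ↔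
        SpanAt (fun k => vecS D (W := π ⁻¹ᵁ i.U) le_rfl (i.σ (i.I k))) x hx by
    show plMap hG hE hL hP x ∈ plOpen hL hP i ↔ x ∈ chartOpen hG i
    rw [mem_chartOpen_iff]
    constructor
    · rintro ⟨h1, h2⟩
      exact ⟨hpx ▸ h1, (key _).1 h2⟩
    · rintro ⟨h1, h2⟩
      exact ⟨_, (key h1).2 h2⟩
  intro hx
  obtain ⟨j, hj⟩ := exists_mem_chartOpen hG hE x
  obtain ⟨z, rfl⟩ : x ∈ Set.range (chartMap hG j) := by rw [range_chartMap]; exact hj
  have hzj : π (chartMap hG j z) ∈ j.U := by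
    rw [← Scheme.Hom.comp_apply, chartMap_comp]; exact j.le_preimage trivial
  obtain ⟨f, f', hff, hmem⟩ := exists_basicOpen_le_affine_inter j.hU i.hU _ ⟨hzj, hx⟩
  let V := X.basicOpen f
  have hVj : V ≤ j.U := X.basicOpen_le _
  have hVi : V ≤ i.U := le_of_eq_of_le hff (X.basicOpen_le _)
  have hV : IsAffineOpen V := j.hU.basicOpen _
  let O : j.Z.left.Opens := j.Z.hom ⁻¹ᵁ V
  let S : Over X := Over.mk (O.ι ≫ j.Z.hom)
  let a : S ⟶ j.Z := Over.homMk O.ι rfl
  have e : ⊤ ≤ S.hom ⁻¹ᵁ V := fun y _ => y.2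
  have hzO : z ∈ O := by
    show j.Z.hom z ∈ V
    rw [← chartMap_comp hG j, Scheme.Hom.comp_apply]
    exact hmem
  let w : S.left := ⟨z, hzO⟩
  let h : S.left ⟶ G := O.ι ≫ chartMap hG j
  have hhg : h ≫ π = S.hom := by show _ = O.ι ≫ j.Z.hom; rw [Category.assoc, chartMap_comp]
  have hcD : D.cls.bc h hhg = (j.univD.bc a.left (Over.w a)).cls :=
    (RQ.bc_bc _ _ (chartMap_comp hG j) _ (Over.w a)).symm.trans
      ((congrArg (fun N => RQ.bc N a.left (Over.w a)) (bc_clsMap hG j.univD)).trans (QData.bc_cls _ _ _))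
  have hhp : (h ≫ plMap hG hE hL hP) ≫ p = S.hom := by rw [Category.assoc, plMap_comp, hhg]
  have hcP : DP.cls.bc (h ≫ plMap hG hE hL hP) hhp = ((plD hL j).bc a.left (Over.w a)).cls := by
    refine Eq.trans ?_ ((congrArg (fun N => RQ.bc N a.left (Over.w a)) (bc_chartMap_plMap hG hE hL hP j)).trans
      (QData.bc_cls _ _ _))
    refine Eq.trans ?_ (RQ.bc_bc _ _ _ _ _).symm
    congr 1
  refine ((spanAt_transfer DP _ _ hhp hcP hVi e _ w (show p (plMap hG hE hL hP (chartMap hG j z)) ∈ i.U from hpx.symm ▸ hx)).trans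
    ?_).trans (spanAt_transfer D _ _ hhg hcD hVi e _ w hx).symm
  have hdet := spanAt_iff_isUnit_det (j.univD.bc a.left (Over.w a)) (j.isFrame_frameBC a) e
    (fun k => E.presheaf.map (homOfLE hVi).op (i.σ (i.I k))) w
  rw [hdet, spanAt_iff_isUnit_det ((plD hL j).bc a.left (Over.w a)) (isFrame_plFbc hL j a) e
    (fun _ : Fin 1 => L.presheaf.map (homOfLE hVi).op (wdg hL i.hU fun k => i.σ (i.I k))) w]
  refine Iff.of_eq (congrArg (fun c => IsUnit (S.left.presheaf.germ ⊤ w trivial c)) ?_)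
  rw [detV, Matrix.det_fin_one]
  refine congrFun (coordsV_eq _ (isFrame_plFbc hL j a) e (c := fun _ => detV (j.univD.bc a.left (Over.w a))
    (j.isFrame_frameBC a) e fun k => E.presheaf.map (homOfLE hVi).op (i.σ (i.I k))) ?_) 0
  rw [Fin.sum_univ_one, wdg_res hL i.hU hV hVi, vecS_plD_bc hL j a hV f rfl hVj e]

include hE in
theorem exists_mem_plOpen (y : P) : ∃ i : Idx E r, y ∈ plOpen hL hP i := by
  classical
  let DP : QData L 1 p := ⟨O1, qP, hP.rank, hP.epi⟩
  obtain ⟨_, ⟨U : X.Opens, hU : IsAffineOpen U, rfl⟩, hyU, -⟩ :=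
    X.isBasis_affineOpens.exists_subset_of_mem_open (Set.mem_univ (p y)) isOpen_univ
  haveI := QCohLib.finite_sections E hE hU
  obtain ⟨n, σ, hσ⟩ := Module.Finite.exists_fin (R := Γ(X, U)) (M := Γ(E, U))
  let ε := Fintype.equivFin (Fin r → Fin n)
  let g := fun m => wdg hL hU (σ ∘ ε.symm m)
  have hg : Submodule.span Γ(X, U) (Set.range g) = ⊤ := by
    rw [← span_wdg hL hU hσ]
    congr 1
    exact Function.Surjective.range_comp ε.symm.surjective (fun J => wdg hL hU (σ ∘ J))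
  obtain ⟨I, hI⟩ := exists_emb_spanAt hP.rank
    (spanAt_vecS DP hU hg (W := p ⁻¹ᵁ U) le_rfl (hyU : y ∈ p ⁻¹ᵁ U))
  by_cases hJ : Function.Injective (ε.symm (I 0))
  · refine ⟨⟨U, hU, n, σ, hσ, ⟨_, hJ⟩⟩, hyU, ?_⟩
    convert hI using 2 with k
    rw [Subsingleton.elim k 0]
    rfl
  · refine absurd hI (not_spanAt_zero hP.rank ?_ y hyU)
    show vecS DP _ (wdg hL hU _) = 0
    rw [wdg, AlternatingMap.map_eq_zero_of_not_injective _ _ (fun h => hJ h.of_comp), map_zero]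
    simp [vecS]

set_option maxHeartbeats 1600000 in
/-- A coordinate morphism from the affine part back to the chart. -/
theorem exists_retraction (i : Idx E r) : ∃ ρ : (plOpen hL hP i : Scheme.{u}) ⟶ i.Z.left,
    ρ ≫ i.Z.hom = (plOpen hL hP i).ι ≫ p ∧
      ∀ f : i.Z.left ⟶ (plOpen hL hP i : Scheme.{u}),
        f ≫ (plOpen hL hP i).ι = chartMap hG i ≫ plMap hG hE hL hP → f ≫ ρ = 𝟙 _ := by
  classical
  let DP : QData L 1 p := ⟨O1, qP, hP.rank, hP.epi⟩
  let Ω := plOpen hL hP i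
  let S : Over X := Over.mk (Ω.ι ≫ p)
  let D' : QData L 1 S.hom := DP.bc Ω.ι rfl
  have hΩ : ∀ y : S.left, ∃ hy : Ω.ι y ∈ p ⁻¹ᵁ i.U, SpanAt (fun _ : Fin 1 =>
      vecS DP (W := p ⁻¹ᵁ i.U) le_rfl (wdg hL i.hU fun k => i.σ (i.I k))) (Ω.ι y) hy := fun y => y.2
  have e : ⊤ ≤ S.hom ⁻¹ᵁ i.U := fun y _ => (hΩ y).1
  have hW : ⊤ ≤ Ω.ι ⁻¹ᵁ (p ⁻¹ᵁ i.U) := fun y _ => (hΩ y).1
  let f1 : Fin 1 → Γ(D'.L, ⊤) := fun _ => vecS D' e (wdg hL i.hU fun k => i.σ (i.I k))
  have hf1 : IsFrame ⊤ f1 := (isFrame_iff_spanAt D'.rank _).2 fun y _ => by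
    simp only [f1, D', vecS_bc DP Ω.ι rfl le_rfl e hW]
    exact (spanAt_pullMap_iff Ω.ι DP.rank hW trivial).2 (hΩ y).2
  let φ := hL.choose ⟨i.U, i.hU⟩
  let ℓ : Fin r → Γ(E, i.U) →ₗ[Γ(X, i.U)] Γ(L, i.U) := fun k =>
    φ.symm.toLinearMap ∘ₗ (ιMulti Γ(X, i.U) r).toMultilinearMap.toLinearMap (fun l => i.σ (i.I l)) k
  have hℓ : ∀ k v, ℓ k v = wdg hL i.hU (Function.update (fun l => i.σ (i.I l)) k v) := fun k v => rfl
  let c : Fin i.n → Fin r → Γ(S.left, ⊤) := fun j k => coordsV D' hf1 e (ℓ k (i.σ j)) 0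
  have hnorm : Normal i.I c := fun a => funext fun k => by
    show coordsV D' hf1 e (ℓ k (i.σ (i.I a))) 0 = _
    rw [hℓ]
    rcases eq_or_ne k a with rfl | hka
    · rw [Pi.single_eq_same, show Function.update (fun l => i.σ (i.I l)) k (i.σ (i.I k)) = fun l => i.σ (i.I l)
        from Function.update_eq_self k _]
      exact congrFun (coordsV_eq D' hf1 e (c := fun _ => 1) (by simp [f1])) 0
    · rw [Pi.single_eq_of_ne hka, show wdg hL i.hU (Function.update (fun l => i.σ (i.I l)) k (i.σ (i.I a))) = 0 from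
        (congrArg φ.symm (AlternatingMap.map_update_self _ (fun l => i.σ (i.I l)) hka)).trans (map_zero _)]
      exact congrFun (coordsV_eq D' hf1 e (c := 0) (by simp [vecS])) 0
  have hrel : ∀ ρ : Fin i.n → Γ(X, i.U), ∑ j, ρ j • i.σ j = 0 →
      ∀ k, ∑ j, S.hom.appLE i.U ⊤ e (ρ j) * c j k = 0 := fun ρ hρ k => by
    have h1 := congrArg (fun v => coordsV D' hf1 e (ℓ k v) 0) hρ
    simp only [map_zero, map_sum, map_smul] at h1
    rw [show coordsV D' hf1 e (0 : Γ(L, i.U)) = 0 from coordsV_eq D' hf1 e (by simp [vecS]), Pi.zero_apply] at h1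
    refine Eq.trans ?_ h1
    let A : Γ(L, i.U) →+ Γ(S.left, ⊤) :=
      AddMonoidHom.mk' (fun v => coordsV D' hf1 e v 0) fun v v' => congrFun (coordsV_add D' hf1 e v v') 0
    show _ = A _
    rw [map_sum]
    exact Finset.sum_congr rfl fun j _ => (congrFun (coordsV_smul D' hf1 e (ρ j) (ℓ k (i.σ j))) 0).symm
  obtain ⟨a, ha⟩ := i.exists_hom_coord (S := S) e c hnorm hrel
  refine ⟨a.left, Over.w a, fun f hf => ?_⟩
  let b : i.Z ⟶ S := Over.homMk f (by
    show f ≫ Ω.ι ≫ p = _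
    rw [reassoc_of% hf, plMap_comp, chartMap_comp])
  suffices b ≫ a = 𝟙 i.Z from congrArg CommaMorphism.left this
  refine i.hom_ext fun j k => ?_
  show Scheme.Hom.appTop (f ≫ a.left) (i.coord j k) = Scheme.Hom.appTop (𝟙 _) (i.coord j k)
  rw [Scheme.Hom.comp_appTop, ConcreteCategory.comp_apply]
  refine (congrArg f.appTop (ha j k)).trans ?_
  simp only [Scheme.Hom.id_app, CommRingCat.id_apply]
  -- compare the two quotients of the exterior power on the chart
  let D'' := D'.bc f (Over.w b)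
  let fb : Fin 1 → Γ(D''.L, ⊤) := fun l => pullMap f D'.L (le_refl (⊤ : i.Z.left.Opens)) (f1 l)
  have hfb : IsFrame ⊤ fb := (isFrame_iff_spanAt D''.rank _).2 fun y hy =>
    (spanAt_pullMap_iff f D'.rank (le_refl (⊤ : i.Z.left.Opens)) hy).2
      ((isFrame_iff_spanAt D'.rank _).1 hf1 _ trivial)
  have hc : D''.cls = (plD hL i).cls := by
    show (D'.bc f (Over.w b)).cls = _
    rw [← QData.bc_cls, ← QData.bc_cls, RQ.bc_bc, ← bc_chartMap_plMap hG hE hL hP i]
    congr 1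
  haveI := D''.epi
  haveI := (plD hL i).epi
  obtain ⟨ε, hε⟩ := exists_iso_of_kerS_eq D''.s (plD hL i).s (congrArg Subtype.val hc)
  have hεf : ∀ l, ε.hom.app ⊤ (fb l) = plF hL i l := fun l => by
    rw [Subsingleton.elim l 0, show fb 0 = vecS D'' i.le_preimage (wdg hL i.hU fun k => i.σ (i.I k)) from
      (vecS_bc_top D' f (Over.w b) e i.le_preimage _).symm, vecS_iso ε hε, vecS_plD,
      detV_frame _ _ _ (fun k => i.vecS_univ_self k), one_smul]
  have hbc : coordsV D'' hfb i.le_preimage (ℓ k (i.σ j)) 0 = f.appTop (c j k) := by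
    have h1 := congrFun (coordsV_bc D' hf1 e f (Over.w b) hfb (fun l => rfl) le_rfl i.le_preimage (ℓ k (i.σ j))) 0
    rw [show L.presheaf.map (homOfLE (le_refl i.U)).op (ℓ k (i.σ j)) = ℓ k (i.σ j) from
      Groth.Agent.CohBase.restr_self _ _ _] at h1
    exact h1
  rw [← hbc, ← coordsV_map D'' hfb i.le_preimage (plD hL i) (isFrame_plF hL i) ε.hom hεf i.le_preimage _
    (vecS_iso ε hε _ _), hℓ]
  refine (congrFun (coordsV_eq (plD hL i) (isFrame_plF hL i) i.le_preimage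
    (c := fun _ => i.coord j k) ?_) 0)
  rw [Fin.sum_univ_one, vecS_plD, detV_update _ _ _ (fun l => i.vecS_univ_self l),
    coordsV_eq i.univD i.isFrame_univF i.le_preimage (i.vecS_univ j).symm]

include hG hE hL hP in
/-- The Plücker morphism is a closed immersion. -/
theorem isClosedImmersion_plMap : IsClosedImmersion (plMap hG hE hL hP) := by
  haveI : IsSeparated p := isSeparated_grass hP
  refine (IsZariskiLocalAtTarget.iff_of_iSup_eq_top (P := @IsClosedImmersion) (fun i : Idx E r => plOpen hL hP i)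
    (top_le_iff.1 fun y _ => Opens.mem_iSup.2 (exists_mem_plOpen hE hL hP y))).2 fun i => ?_
  let Ω := plOpen hL hP i
  obtain ⟨u, hu⟩ := exists_iso_chartOpen hG i
  obtain ⟨ρ, hρ, hret⟩ := exists_retraction hG hE hL hP i
  have he := preimage_plOpen hG hE hL hP i
  let v : i.Z.left ≅ (plMap hG hE hL hP ⁻¹ᵁ Ω : Scheme.{u}) := u ≪≫ (G.isoOfEq he).symm
  let f : i.Z.left ⟶ (Ω : Scheme.{u}) := v.hom ≫ (plMap hG hE hL hP ∣_ Ω)
  have hf : f ≫ Ω.ι = chartMap hG i ≫ plMap hG hE hL hP := by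
    simp only [f, v, Iso.trans_hom, Iso.symm_hom, Category.assoc, morphismRestrict_ι]
    rw [Scheme.isoOfEq_inv_ι_assoc, reassoc_of% hu]
  haveI : IsSeparated (ρ ≫ i.Z.hom) := by rw [hρ]; infer_instance
  haveI : IsSeparated ρ := IsSeparated.of_comp ρ i.Z.hom
  haveI : IsClosedImmersion (f ≫ ρ) := by rw [hret f hf]; infer_instance
  haveI : IsClosedImmersion f := IsClosedImmersion.of_comp f ρ
  rw [← Iso.inv_hom_id_assoc v (plMap hG hE hL hP ∣_ Ω)]
  show IsClosedImmersion (v.inv ≫ f)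
  infer_instance

end Groth.Agent.GrassShLib
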