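import Groth.Agent.GrassShLib.Coords
import Groth.Agent.KRRAmple.Cover
import Groth.Agent.GrassShLib.Main

/-!
# The Plücker quotient on a chart, and its independence of the chart
-/

set_option autoImplicit false
set_option backward.isDefEq.respectTransparency false
set_option linter.style.haveILetI false

universe u

open CategoryTheory CategoryTheory.Limits AlgebraicGeometry TopologicalSpace Opposite Grass
open Groth.Agent.PullbackMod Groth.Agent.FlagLib Groth.Agent.DegDevLib Groth.Agent.DCohLib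
open exteriorPower

noncomputable section

namespace Groth.Agent.GrassShLib

variable {X : Scheme.{u}} {E L : X.Modules} {r : ℕ} [Coh.IsQCoh E] [Coh.IsQCoh L]
  (hL : ExtPow.IsExtPow r E L)

/-- Generators of the exterior power over the open of an index. -/
def wedgeGen (i : Idx E r) (m : Fin (Fintype.card (Fin r → Fin i.n))) : Γ(L, i.U) :=
  wdg hL i.hU (i.σ ∘ (Fintype.equivFin (Fin r → Fin i.n)).symm m)

theorem span_wedgeGen (i : Idx E r) : Submodule.span Γ(X, i.U) (Set.range (wedgeGen hL i)) = ⊤ := by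
  rw [← span_wdg hL i.hU i.hσ]
  congr 1
  exact Function.Surjective.range_comp (Fintype.equivFin _).symm.surjective (fun J => wdg hL i.hU (i.σ ∘ J))

set_option maxHeartbeats 1600000 in
theorem exists_plD (i : Idx E r) : ∃ (P : QData L 1 i.Z.hom) (p : Fin 1 → Γ(P.L, ⊤)), IsFrame ⊤ p ∧
    ∀ v : Fin r → Γ(E, i.U), vecS P i.le_preimage (wdg hL i.hU v) =
      detV i.univD i.isFrame_univF i.le_preimage v • p 0 := by
  classical
  let U := i.U
  letI : Algebra Γ(X, U) Γ(i.Z.left, ⊤) := (i.Z.hom.appLE U ⊤ i.le_preimage).hom.toAlgebra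
  let ℓ := detL i.univD i.isFrame_univF i.le_preimage
  let φ := hL.choose ⟨U, i.hU⟩
  let M := FlatMod.freeMod i.Z.left 1
  let e₁ := stdSec i.Z.left 1 0
  let J := fun m => i.σ ∘ (Fintype.equivFin (Fin r → Fin i.n)).symm m
  obtain ⟨s, hs⟩ := exists_hom i.hU (span_wedgeGen hL i) i.Z.hom i.le_preimage (L := M)
    (fun m => ℓ (ιMulti Γ(X, U) r (J m)) • e₁) (fun ρ hρ => by
      have h1 := congrArg φ hρ
      simp only [map_sum, map_zero, map_smul] at h1
      have h2 : ∑ m, ρ m • ιMulti Γ(X, U) r (J m) = 0 := by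
        refine Eq.trans (Finset.sum_congr rfl fun m _ => ?_) h1
        exact congrArg (ρ m • ·) (φ.apply_symm_apply _).symm
      have h3 := congrArg ℓ h2
      rw [map_sum, map_zero] at h3
      simp only [map_smul] at h3
      simp only [smul_smul, ← Finset.sum_smul]
      rw [show ∑ m, i.Z.hom.appLE U ⊤ i.le_preimage (ρ m) * ℓ (ιMulti Γ(X, U) r (J m)) = 0 from h3, zero_smul])
  have key : ∀ v : Fin r → Γ(E, U), s.app ⊤ (pullMap i.Z.hom L i.le_preimage (wdg hL i.hU v)) =
      ℓ (ιMulti Γ(X, U) r v) • e₁ := by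
    intro v
    let A : Γ(L, U) →+ Γ(M, ⊤) := (s.app ⊤).hom.comp (pullMap i.Z.hom L i.le_preimage)
    have hv : wdg hL i.hU v ∈ Submodule.span Γ(X, U) (Set.range (wedgeGen hL i)) := by
      rw [span_wedgeGen]; trivial
    have hφ : ∀ w, φ (wdg hL i.hU w) = ιMulti Γ(X, U) r w := fun w => φ.apply_symm_apply _
    rw [← hφ v]
    show A _ = ℓ (φ _) • e₁
    generalize wdg hL i.hU v = w at hv ⊢
    induction hv using Submodule.span_induction with
    | mem y hy =>
      obtain ⟨m, rfl⟩ := hy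
      rw [show φ (wedgeGen hL i m) = ιMulti Γ(X, U) r (J m) from hφ _]
      exact hs m
    | zero => rw [map_zero, map_zero, map_zero, zero_smul]
    | add a b _ _ ha hb => rw [map_add, map_add, map_add, ha, hb, add_smul]
    | smul c a _ ha =>
      have h1 : ℓ (φ (c • a)) = i.Z.hom.appLE U ⊤ i.le_preimage c * ℓ (φ a) :=
        (congrArg ℓ (φ.map_smul c a)).trans (ℓ.map_smul c (φ a))
      have h2 : A (c • a) = i.Z.hom.appLE U ⊤ i.le_preimage c • A a := by
        simp only [A, AddMonoidHom.comp_apply, pullMap_smul]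
        exact Scheme.Modules.Hom.app_smul s _ _
      rw [h1, h2, ha, mul_smul]
  have hI : s.app ⊤ (pullMap i.Z.hom L i.le_preimage (wdg hL i.hU fun k => i.σ (i.I k))) = e₁ := by
    rw [key, detL_ιMulti, detV_frame _ _ _ (fun k => i.vecS_univ_self k), one_smul]
  haveI : Epi s := by
    refine (epi_iff_stalk s).2 fun x => ?_
    rw [← LinearMap.range_eq_top, eq_top_iff,
      ← (spanAt_iff_surjective (stdSec i.Z.left 1) x trivial).2 (isFrame_stdSec i.Z.left 1 x trivial).2,
      Submodule.span_le]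
    rintro _ ⟨a, rfl⟩
    rw [Subsingleton.elim a 0]
    exact ⟨_, (stalkLin_germ s (U := ⊤) x trivial _).trans (congrArg _ hI)⟩
  exact ⟨⟨M, s, fun _ => ⟨⊤, trivial, ⟨restrictFreeMod _ 1⟩⟩, inferInstance⟩, stdSec i.Z.left 1,
    isFrame_stdSec _ 1, fun v => (key v).trans (by rw [detL_ιMulti])⟩

/-- The Plücker quotient on a chart. -/
def plD (i : Idx E r) : QData L 1 i.Z.hom := (exists_plD hL i).choose

/-- Its generator. -/
def plF (i : Idx E r) : Fin 1 → Γ((plD hL i).L, ⊤) := (exists_plD hL i).choose_spec.choose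

theorem isFrame_plF (i : Idx E r) : IsFrame ⊤ (plF hL i) := (exists_plD hL i).choose_spec.choose_spec.1

theorem vecS_plD (i : Idx E r) (v : Fin r → Γ(E, i.U)) :
    vecS (plD hL i) i.le_preimage (wdg hL i.hU v) =
      detV i.univD i.isFrame_univF i.le_preimage v • plF hL i 0 :=
  (exists_plD hL i).choose_spec.choose_spec.2 v

/-- The generator over a scheme over the chart. -/
def plFbc (i : Idx E r) {S : Over X} (a : S ⟶ i.Z) : Fin 1 → Γ(((plD hL i).bc a.left (Over.w a)).L, ⊤) :=
  fun k => pullMap a.left (plD hL i).L (le_refl (⊤ : S.left.Opens)) (plF hL i k)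

theorem isFrame_plFbc (i : Idx E r) {S : Over X} (a : S ⟶ i.Z) : IsFrame ⊤ (plFbc hL i a) := by
  refine (isFrame_iff_spanAt ((plD hL i).bc a.left (Over.w a)).rank _).2 fun x hx => ?_
  exact (spanAt_pullMap_iff a.left (plD hL i).rank (le_refl (⊤ : S.left.Opens)) hx).2
    ((isFrame_iff_spanAt (plD hL i).rank _).1 (isFrame_plF hL i) _ trivial)

omit [Coh.IsQCoh L] in
theorem span_res {V U : X.Opens} (hU : IsAffineOpen U) (f : Γ(X, U)) (hV : V = X.basicOpen f) {n : ℕ}
    {σ : Fin n → Γ(E, U)} (hσ : Submodule.span Γ(X, U) (Set.range σ) = ⊤) (h : V ≤ U) :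
    Submodule.span Γ(X, V) (Set.range fun j => E.presheaf.map (homOfLE h).op (σ j)) = ⊤ := by
  subst hV
  letI : Algebra Γ(X, U) Γ(X, X.basicOpen f) := (X.presheaf.map (homOfLE h).op).hom.toAlgebra
  haveI : IsLocalization.Away f Γ(X, X.basicOpen f) := hU.isLocalization_basicOpen f
  letI : Module Γ(X, U) Γ(E, X.basicOpen f) := Module.compHom _ (X.presheaf.map (homOfLE h).op).hom
  haveI : IsScalarTower Γ(X, U) Γ(X, X.basicOpen f) Γ(E, X.basicOpen f) := .of_algebraMap_smul fun _ _ => rfl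
  let g : Γ(E, U) →ₗ[Γ(X, U)] Γ(E, X.basicOpen f) :=
    { toFun := fun m => E.presheaf.map (homOfLE h).op m
      map_add' := fun m m' => map_add (E.presheaf.map (homOfLE h).op).hom m m'
      map_smul' := fun r m => E.map_smul (homOfLE h) r m }
  haveI : IsLocalizedModule (Submonoid.powers f) g := by
    have hE := QCohLib.locAt E hU
    refine IsLocalizedModule.Away.mk_of_addCommGroup ?_ ?_ ?_
    · rw [Module.End.isUnit_iff]
      have hun : IsUnit (algebraMap Γ(X, U) Γ(X, X.basicOpen f) f) :=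
        IsLocalization.Away.algebraMap_isUnit (S := Γ(X, X.basicOpen f)) f
      exact hun.unit.isUnit.smul_bijective (β := Γ(E, X.basicOpen f))
    · intro t
      obtain ⟨n, s, hs⟩ := hE.extend f t
      exact ⟨n, s, hs.symm⟩
    · intro s hs
      obtain ⟨n, hn⟩ := hE.kill f s hs
      refine ⟨n, ?_⟩
      rw [CohBase.sc_apply] at hn
      refine Eq.trans ?_ hn
      rw [show (homOfLE (le_refl U)).op = 𝟙 (op U) from Subsingleton.elim _ _, X.presheaf.map_id]
      rfl
  have h2 := span_eq_top_of_isLocalizedModule Γ(X, X.basicOpen f) (Submonoid.powers f) g (v := Set.range σ) hσ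
  rw [← Set.range_comp] at h2
  exact h2

/-- On a scheme over a chart, the Plücker quotient takes a wedge to the determinant of the coordinates. -/
theorem vecS_plD_bc (i : Idx E r) {S : Over X} (a : S ⟶ i.Z) {V : X.Opens} (hV : IsAffineOpen V)
    (f : Γ(X, i.U)) (hVf : V = X.basicOpen f) (hVU : V ≤ i.U) (e : ⊤ ≤ S.hom ⁻¹ᵁ V) (v : Fin r → Γ(E, V)) :
    vecS ((plD hL i).bc a.left (Over.w a)) e (wdg hL hV v) =
      detV (i.univD.bc a.left (Over.w a)) (i.isFrame_frameBC a) e v • plFbc hL i a 0 := by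
  classical
  let P := (plD hL i).bc a.left (Over.w a)
  let D := i.univD.bc a.left (Over.w a)
  letI : Algebra Γ(X, V) Γ(S.left, ⊤) := (S.hom.appLE V ⊤ e).hom.toAlgebra
  let φ := hL.choose ⟨V, hV⟩
  let ℓ := detL D (i.isFrame_frameBC a) e
  have hφ : ∀ w, φ (wdg hL hV w) = ιMulti Γ(X, V) r w := fun w => φ.apply_symm_apply _
  let τ := fun j => E.presheaf.map (homOfLE hVU).op (i.σ j)
  have hmem : wdg hL hV v ∈ Submodule.span Γ(X, V) (Set.range fun J : Fin r → Fin i.n => wdg hL hV (τ ∘ J)) := by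
    rw [span_wdg hL hV (span_res i.hU f hVf i.hσ hVU)]; trivial
  rw [← detL_ιMulti D (i.isFrame_frameBC a) e, ← hφ v]
  show vecS P e _ = ℓ (φ _) • _
  generalize wdg hL hV v = w at hmem ⊢
  induction hmem using Submodule.span_induction with
  | mem y hy =>
    obtain ⟨J, rfl⟩ := hy
    dsimp only
    rw [hφ, show ℓ (ιMulti Γ(X, V) r (τ ∘ J)) = detV D (i.isFrame_frameBC a) e (τ ∘ J) from detL_ιMulti _ _ _ _,
      show detV D (i.isFrame_frameBC a) e (τ ∘ J) =
        a.left.appTop (detV i.univD i.isFrame_univF i.le_preimage (i.σ ∘ J)) from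
        detV_bc i.univD i.isFrame_univF i.le_preimage a.left (Over.w a) (i.isFrame_frameBC a) (fun k => rfl) hVU e _,
      show wdg hL hV (τ ∘ J) = L.presheaf.map (homOfLE hVU).op (wdg hL i.hU (i.σ ∘ J)) from
        (wdg_res hL i.hU hV hVU (i.σ ∘ J)).symm]
    have e'' : ⊤ ≤ S.hom ⁻¹ᵁ i.U := i.le_preimage_comp a
    have h1 : vecS P e (L.presheaf.map (homOfLE hVU).op (wdg hL i.hU (i.σ ∘ J))) =
        vecS P e'' (wdg hL i.hU (i.σ ∘ J)) := by
      show P.s.app ⊤ _ = P.s.app ⊤ _
      refine congrArg _ ((pullMap_res S.hom L e'' hVU le_rfl e _).symm.trans ?_)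
      exact Groth.Agent.CohBase.restr_self _ _ _
    refine h1.trans ?_
    rw [vecS_bc_top (plD hL i) a.left (Over.w a) i.le_preimage e'', vecS_plD, pullMap_smul]
    simp [Scheme.Hom.appLE, plFbc]
  | zero => simp [vecS]
  | add x y _ _ hx hy =>
    rw [map_add, map_add, add_smul, ← hx, ← hy]
    simp [vecS]
  | smul c x _ hx =>
    rw [map_smul, map_smul]
    show vecS P e (c • x) = (S.hom.appLE V ⊤ e c * ℓ (φ x)) • _
    rw [mul_smul, ← hx]
    simp only [vecS, pullMap_smul, Scheme.Modules.Hom.app_smul]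

set_option maxHeartbeats 1600000 in
/-- Two charts give the same Plücker quotient. -/
theorem plD_compat (i k : Idx E r) {W : Over X} (a : W ⟶ i.Z) (b : W ⟶ k.Z)
    (h : i.univD.cls.bc a.left (Over.w a) = k.univD.cls.bc b.left (Over.w b)) :
    (plD hL i).cls.bc a.left (Over.w a) = (plD hL k).cls.bc b.left (Over.w b) := by
  classical
  choose f f' hff hmem using fun w : W.left => exists_basicOpen_le_affine_inter i.hU k.hU (W.hom w)
    ⟨i.le_preimage_comp a (show w ∈ (⊤ : W.left.Opens) from trivial),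
      k.le_preimage_comp b (show w ∈ (⊤ : W.left.Opens) from trivial)⟩
  let V : W.left → X.Opens := fun w => X.basicOpen (f w)
  let O : W.left → W.left.Opens := fun w => W.hom ⁻¹ᵁ V w
  let U : W.left → Over X := fun w => Over.mk ((O w).ι ≫ W.hom)
  let t : ∀ w, U w ⟶ W := fun w => Over.homMk (O w).ι rfl
  haveI : ∀ w, IsOpenImmersion (t w).left := fun w => inferInstanceAs (IsOpenImmersion (O w).ι)
  refine separated L 1 t (fun w => ⟨w, ⟨w, hmem w⟩, rfl⟩) fun w => ?_
  let a' : U w ⟶ i.Z := t w ≫ a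
  let b' : U w ⟶ k.Z := t w ≫ b
  have h' : i.univD.cls.bc a'.left (Over.w a') = k.univD.cls.bc b'.left (Over.w b') := by
    refine ((RQ.bc_bc _ a.left (Over.w a) (t w).left (Over.w (t w))).symm.trans ?_).trans
      (RQ.bc_bc _ b.left (Over.w b) (t w).left (Over.w (t w)))
    rw [h]
  refine (RQ.bc_bc _ _ _ _ _).trans (Eq.trans ?_ (RQ.bc_bc _ _ _ _ _).symm)
  show (plD hL i).cls.bc a'.left (Over.w a') = (plD hL k).cls.bc b'.left (Over.w b')
  have hVi : V w ≤ i.U := X.basicOpen_le _
  have hVk : V w ≤ k.U := le_of_eq_of_le (hff w) (X.basicOpen_le _)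
  have hVa : IsAffineOpen (V w) := i.hU.basicOpen _
  have e : ⊤ ≤ (U w).hom ⁻¹ᵁ V w := fun y _ => y.2
  rw [QData.bc_cls, QData.bc_cls] at h'
  haveI := (i.univD.bc a'.left (Over.w a')).epi
  haveI := (k.univD.bc b'.left (Over.w b')).epi
  obtain ⟨ε, hε⟩ := exists_iso_of_kerS_eq _ _ (congrArg Subtype.val h')
  let Db := k.univD.bc b'.left (Over.w b')
  let fa : Fin r → Γ(Db.L, ⊤) := fun l => ε.hom.app ⊤ (i.frameBC a' l)
  have hfa : IsFrame ⊤ fa := (isFrame_iff_spanAt Db.rank _).2 fun x hx =>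
    ((isFrame_iff_spanAt (i.univD.bc a'.left (Over.w a')).rank _).1 (i.isFrame_frameBC a') x hx).map ε.hom
  have hA := fun l => (k.isFrame_frameBC b').bijective.2 (fa l)
  choose A hA using hA
  simp only [Fintype.linearCombination_apply] at hA
  let u : Γ((U w).left, ⊤) := (Matrix.of A).det
  have hcm : ∀ z : Γ(E, V w), coordsV Db hfa e z =
      coordsV (i.univD.bc a'.left (Over.w a')) (i.isFrame_frameBC a') e z := fun z => by
    refine coordsV_map (i.univD.bc a'.left (Over.w a')) (i.isFrame_frameBC a') e Db hfa ε.hom ?_ e z ?_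
    · intro l; rfl
    · exact vecS_iso ε hε e z
  have hdet : ∀ v : Fin r → Γ(E, V w), detV Db (k.isFrame_frameBC b') e v =
      detV (i.univD.bc a'.left (Over.w a')) (i.isFrame_frameBC a') e v * u := by
    intro v
    rw [detV_change Db hfa e (k.isFrame_frameBC b') (Matrix.of A) (fun l => (hA l).symm)]
    congr 1
    exact congrArg Matrix.det (Matrix.ext fun x y => congrFun (hcm (v x)) y)
  let Pa := (plD hL i).bc a'.left (Over.w a')
  let Pb := (plD hL k).bc b'.left (Over.w b')
  haveI := bijective_descS (isFrame_plFbc hL i a')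
  let η : Pa.L ⟶ Pb.L := inv (descS (plFbc hL i a')) ≫ descS fun c => u • plFbc hL k b' c
  have hη : η.app ⊤ (plFbc hL i a' 0) = u • plFbc hL k b' 0 := by
    rw [← descS_app_stdSec (plFbc hL i a') 0, ← descS_app_stdSec (fun c => u • plFbc hL k b' c) 0]
    show (inv (descS _) ≫ descS _).app ⊤ ((descS (plFbc hL i a')).app ⊤ _) = _
    rw [← ConcreteCategory.comp_apply, ← Scheme.Modules.Hom.comp_app, IsIso.hom_inv_id_assoc]
  have hcomm : Pa.s ≫ η = Pb.s := by
    refine SpanAt.hom_ext fun x => ?_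
    refine ⟨⊤, Fin (Fintype.card (Fin r → Fin i.n)), fun m => pullMap (U w).hom L e
      (L.presheaf.map (homOfLE hVi).op (wedgeGen hL i m)), trivial,
      spanAt_pullMap (U w).hom e trivial (?_), fun m => ?_⟩
    · have := spanAt_affine i.hU (span_wedgeGen hL i) (hVi (e (show x ∈ (⊤ : (U w).left.Opens) from trivial)))
      simpa only [SpanAt, TopCat.Presheaf.germ_res_apply] using this
    · show η.app ⊤ (vecS Pa e _) = vecS Pb e _
      rw [wedgeGen, wdg_res hL i.hU hVa hVi, vecS_plD_bc hL i a' hVa (f w) rfl hVi e,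
        vecS_plD_bc hL k b' hVa (f' w) (hff w) hVk e, Scheme.Modules.Hom.app_smul, hη, hdet, mul_smul]
  haveI := Pa.epi
  haveI := Pb.epi
  haveI : Epi η := by
    haveI : Epi (Pa.s ≫ η) := by rw [hcomm]; infer_instance
    exact epi_of_epi Pa.s η
  haveI : IsIso η := GrassRepLib.isIso_of_epi_rank η Pa.rank Pb.rank
  rw [QData.bc_cls, QData.bc_cls]
  refine Subtype.ext ?_
  show kerS Pa.s = kerS Pb.s
  rw [← hcomm]
  exact (kerS_comp_iso _ (asIso η)).symm

end Groth.Agent.GrassShLib
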